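import Cfsg.Agent.Lib.SCNonCyclic.Local
import Cfsg.Agent.S0115
import Cfsg.Agent.S4399
import Cfsg.Agent.S0508
import Cfsg.Agent.S0205
import Mathlib.GroupTheory.Transfer

set_option autoImplicit false

/-!
Self-centralizing non-cyclic subgroups: the Sylow 2-subgroup is dihedral and the group is two-dimensional linear.
-/

namespace CfsgLib.SCNonCyclic

open Subgroup

universe u

variable {G : Type u} [Group G] [Finite G]

/-- A semidihedral Sylow 2-subgroup that is the centralizer of its central involution is impossible. -/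
theorem not_semidihedral [IsSimpleGroup G] (hna : ¬ IsMulCommutative G) (S : Sylow 2 G) (k : ℕ)
    (hcard : Nat.card (S : Subgroup G) = 2 ^ (k + 4)) (a b : (S : Subgroup G)) (ha : orderOf a = 2 ^ (k + 3))
    (hb : orderOf b = 2) (hab : b * a * b⁻¹ = a ^ (2 ^ (k + 2) - 1))
    (hC : ∀ t : G, orderOf t = 2 → t ∈ (S : Subgroup G) → (∀ y ∈ (S : Subgroup G), Commute y t) →
      centralizer ({t} : Set G) = (S : Subgroup G)) : False := by
  classical
  haveI : Fact (Nat.Prime 2) := ⟨Nat.prime_two⟩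
  set e : ℕ := 2 ^ (k + 2) - 1 with he
  have hE : e + 1 = 2 ^ (k + 2) := Nat.sub_add_cancel Nat.one_le_two_pow
  have heodd : Odd e := Nat.Even.sub_odd Nat.one_le_two_pow (Nat.even_pow.mpr ⟨even_two, by omega⟩) odd_one
  have hb2 := Involutions.mul_self_eq_one_of_orderOf hb
  have hbi := Involutions.inv_eq_self_of_orderOf hb
  have hconj : ∀ i : ℤ, b * a ^ i = a ^ ((e : ℤ) * i) * b := fun i => by
    have : b * a ^ i * b⁻¹ = a ^ ((e : ℤ) * i) := by
      rw [← conj_zpow, hab, zpow_mul, zpow_natCast]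
    rw [← this, inv_mul_cancel_right]
  set z := a ^ (2 ^ (k + 2))
  have hz : orderOf z = 2 := by
    show orderOf (a ^ (2 ^ (k + 2))) = 2
    rw [orderOf_pow' _ (by positivity), ha, show k + 3 = k + 2 + 1 by ring, pow_succ,
      Nat.gcd_eq_right (dvd_mul_right _ _), Nat.mul_div_cancel_left _ (by positivity)]
  have hbR : b ∉ zpowers a := by
    rintro ⟨i, hi⟩
    have hi' : a ^ i = b := hi
    have hcm : b * a * b⁻¹ = a := by
      rw [← hi', (((Commute.refl a).zpow_left i)).eq, mul_inv_cancel_right]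
    rw [hab] at hcm
    have h4 : (e : ℕ) ≡ 1 [MOD 2 ^ (k + 3)] := by
      rw [← ha]
      exact pow_eq_pow_iff_modEq.mp (by rw [pow_one]; exact hcm)
    have h2 : 2 ^ (k + 2) < 2 ^ (k + 3) := Nat.pow_lt_pow_right (by norm_num) (by omega)
    have h8 : 4 ≤ 2 ^ (k + 2) := by
      calc 4 = 2 ^ 2 := by norm_num
        _ ≤ _ := Nat.pow_le_pow_right (by norm_num) (by omega)
    have := Nat.ModEq.eq_of_lt_of_lt h4 (by omega) (by omega)
    omega
  have hRidx : (zpowers a).index = 2 := by
    have h1 := (zpowers a).card_mul_index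
    rw [Nat.card_zpowers, ha, hcard, show k + 4 = k + 3 + 1 by ring, pow_succ] at h1
    exact Nat.eq_of_mul_eq_mul_left (by positivity) h1
  have hdec : ∀ y : (S : Subgroup G), (∃ i : ℤ, y = a ^ i) ∨ ∃ i : ℤ, y = a ^ i * b := by
    intro y
    by_cases hy : y ∈ zpowers a
    · obtain ⟨i, hi⟩ := hy; exact Or.inl ⟨i, hi.symm⟩
    · have : y * b⁻¹ ∈ zpowers a := (mul_mem_iff_of_index_two hRidx).mpr (by
        constructor
        · intro h; exact absurd h hy
        · intro h; exact absurd (inv_mem_iff.mp h) hbR)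
      obtain ⟨i, hi⟩ := this
      exact Or.inr ⟨i, by rw [show a ^ i = y * b⁻¹ from hi, inv_mul_cancel_right]⟩
  -- the index two subgroup
  let M : Subgroup (S : Subgroup G) :=
    { carrier := {y | ∃ i : ℤ, y = a ^ (2 * i) ∨ y = a ^ (2 * i) * b}
      one_mem' := ⟨0, Or.inl (by simp)⟩
      mul_mem' := by
        rintro p q ⟨i, hp | hp⟩ ⟨l, hq | hq⟩ <;> subst hp <;> subst hq
        · exact ⟨i + l, Or.inl (by rw [mul_add, zpow_add])⟩
        · exact ⟨i + l, Or.inr (by rw [mul_add, zpow_add, mul_assoc])⟩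
        · refine ⟨i + e * l, Or.inr ?_⟩
          rw [mul_assoc, hconj, ← mul_assoc, ← zpow_add]
          congr 2; ring
        · refine ⟨i + e * l, Or.inl ?_⟩
          calc a ^ (2 * i) * b * (a ^ (2 * l) * b) = a ^ (2 * i) * (b * a ^ (2 * l)) * b := by group
            _ = a ^ (2 * i) * a ^ ((e : ℤ) * (2 * l)) * (b * b) := by rw [hconj]; group
            _ = _ := by rw [hb2, mul_one, ← zpow_add]; congr 1; ring
      inv_mem' := by
        rintro p ⟨i, hp | hp⟩ <;> subst hp
        · exact ⟨-i, Or.inl (by rw [← zpow_neg]; congr 1; ring)⟩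
        · refine ⟨-(e * i), Or.inr ?_⟩
          rw [mul_inv_rev, hbi, ← zpow_neg, hconj]
          congr 2; ring }
  have haM : a ∉ M := by
    rintro ⟨i, h | h⟩
    · have h1 : a ^ (2 * i - 1) = 1 := by rw [zpow_sub, ← h, zpow_one, mul_inv_cancel]
      have h2 := orderOf_dvd_iff_zpow_eq_one.mpr h1
      rw [ha] at h2
      have h3 : (2 : ℤ) ∣ 2 * i - 1 := (Dvd.intro_left _ (by rw [pow_succ]; push_cast; ring : (2 ^ (k + 2) : ℤ) * 2 = ((2 ^ (k + 3) : ℕ) : ℤ))).trans h2
      omega
    · exact hbR ⟨-(2 * i) + 1, by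
        show a ^ (-(2 * i) + 1) = b
        rw [zpow_add, zpow_one]
        nth_rewrite 2 [h]
        rw [← mul_assoc, ← zpow_add, neg_add_cancel, zpow_zero, one_mul]⟩
  have hMdec : ∀ y, y ∈ M ∨ a * y ∈ M := by
    intro y
    rcases hdec y with ⟨i, rfl⟩ | ⟨i, rfl⟩ <;> obtain ⟨m, rfl | rfl⟩ := Int.even_or_odd' i
    · exact Or.inl ⟨m, Or.inl rfl⟩
    · exact Or.inr ⟨m + 1, Or.inl (by rw [← zpow_one_add]; congr 1; ring)⟩
    · exact Or.inl ⟨m, Or.inr rfl⟩
    · exact Or.inr ⟨m + 1, Or.inr (by rw [← mul_assoc, ← zpow_one_add]; congr 2; ring)⟩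
  have hMidx : M.index = 2 := by
    rw [index_eq_two_iff]
    refine ⟨a⁻¹, fun y => ?_⟩
    haveI : Fact True := ⟨trivial⟩
    by_cases hy : y ∈ M
    · refine Or.inr ⟨hy, fun h => haM (inv_mem_iff.mp ((M.mul_mem_cancel_left hy).mp h))⟩
    · refine Or.inl ⟨?_, hy⟩
      rcases hMdec y⁻¹ with h | h
      · exact absurd (inv_mem_iff.mp h) hy
      · have := inv_mem h
        rwa [mul_inv_rev, inv_inv] at this
  -- involutions lie in it
  have hinvM : ∀ y : (S : Subgroup G), y * y = 1 → y ∈ M := by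
    intro y hy
    rcases hdec y with ⟨i, rfl⟩ | ⟨i, rfl⟩ <;> obtain ⟨m, rfl | rfl⟩ := Int.even_or_odd' i
    · exact ⟨m, Or.inl rfl⟩
    · exfalso
      rw [← zpow_add] at hy
      have h2 := orderOf_dvd_iff_zpow_eq_one.mpr hy
      rw [ha] at h2
      have h3 : (4 : ℤ) ∣ 2 * m + 1 + (2 * m + 1) :=
        (Dvd.intro_left _ (by rw [pow_succ, pow_succ]; push_cast; ring : (2 ^ (k + 1) : ℤ) * 4 = ((2 ^ (k + 3) : ℕ) : ℤ))).trans h2
      omega
    · exact ⟨m, Or.inr rfl⟩
    · exfalso
      have e1 : a ^ (2 * m + 1) * b * (a ^ (2 * m + 1) * b) = z ^ (2 * m + 1) := by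
        calc a ^ (2 * m + 1) * b * (a ^ (2 * m + 1) * b) = a ^ (2 * m + 1) * (b * a ^ (2 * m + 1)) * b := by group
          _ = a ^ (2 * m + 1) * a ^ ((e : ℤ) * (2 * m + 1)) * (b * b) := by rw [hconj]; group
          _ = _ := by
            rw [hb2, mul_one, ← zpow_add]
            show _ = (a ^ (2 ^ (k + 2))) ^ (2 * m + 1)
            rw [← zpow_natCast, ← zpow_mul]
            congr 1
            rw [← hE]; push_cast; ring
      rw [e1, zpow_add_one, zpow_mul, zpow_two, Involutions.mul_self_eq_one_of_orderOf hz, one_zpow, one_mul] at hy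
      rw [hy, orderOf_one] at hz
      omega
  -- the element of order four outside
  set y : (S : Subgroup G) := a * b with hy
  have hyy : y * y = z := by
    calc a * b * (a * b) = a * (b * a ^ (1 : ℤ)) * b := by rw [zpow_one]; group
      _ = a * a ^ ((e : ℤ) * 1) * (b * b) := by rw [hconj]; group
      _ = a ^ (e + 1) := by rw [hb2, mul_one, mul_one, zpow_natCast, ← pow_succ']
      _ = z := by rw [hE]
  have hyM : y ∉ M := fun hm => haM (by
    have hbM : b ∈ M := ⟨0, Or.inr (by simp)⟩
    have := mul_mem hm (inv_mem hbM)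
    rwa [hy, mul_inv_cancel_right] at this)
  have hzc : ∀ w ∈ (S : Subgroup G), Commute w (z : G) := by
    intro w hw
    have h1 : Commute (⟨w, hw⟩ : (S : Subgroup G)) z := by
      rcases hdec ⟨w, hw⟩ with ⟨i, hi⟩ | ⟨i, hi⟩ <;> rw [hi]
      · exact ((Commute.refl a).zpow_left i).pow_right _
      · refine (((Commute.refl a).zpow_left i).pow_right _).mul_left ?_
        show b * z = z * b
        have e1 := hconj ((2 ^ (k + 2) : ℕ) : ℤ)
        rw [zpow_natCast] at e1
        rw [e1, zpow_mul, zpow_natCast, zpow_natCast]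
        congr 1
        rw [← pow_mul, mul_comm, pow_mul]
        obtain ⟨m, hm⟩ := heodd
        rw [hm, pow_add, pow_mul, pow_two, Involutions.mul_self_eq_one_of_orderOf hz, one_pow, one_mul, pow_one]
    exact congrArg Subtype.val h1.eq
  have hzG : orderOf (z : G) = 2 := by rw [Subgroup.orderOf_coe, hz]
  have hCz := hC z hzG z.2 hzc
  -- the transfer
  haveI hMn : M.Normal := normal_of_index_eq_two hMidx
  let ψ : (S : Subgroup G) →* ℤˣ :=
    { toFun := fun x => if x ∈ M then 1 else -1
      map_one' := by simp [one_mem]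
      map_mul' := fun p q => by
        have h := Subgroup.mul_mem_iff_of_index_two hMidx (a := p) (b := q)
        by_cases ha : p ∈ M <;> by_cases hb : q ∈ M <;> simp [ha, hb, h] }
  set u : G := (y : G) with hu
  have hu4 : u ^ 4 = 1 := by
    have h1 : (y : (S : Subgroup G)) ^ 4 = 1 := by
      rw [show (4 : ℕ) = 2 + 2 by norm_num, pow_add, pow_two, hyy, Involutions.mul_self_eq_one_of_orderOf hz]
    simpa using congrArg Subtype.val h1
  have hu2 : u * u = (z : G) := congrArg Subtype.val hyy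
  let V : G →* ℤˣ := MonoidHom.transfer ψ
  haveI : Fintype (Quotient (MulAction.orbitRel (zpowers u) (G ⧸ (S : Subgroup G)))) := Fintype.ofFinite _
  have hterm : ∀ (n : ℕ) (g : G) (hm : g⁻¹ * u ^ n * g ∈ (S : Subgroup G)), n ∣ 4 →
      ψ ⟨g⁻¹ * u ^ n * g, hm⟩ = if n = 1 then -1 else 1 := by
    intro n g hm hn
    have hn3 : n = 1 ∨ n = 2 ∨ n = 4 := by
      have := Nat.le_of_dvd (by norm_num) hn
      interval_cases n <;> first | omega | (norm_num at hn)
    rcases hn3 with rfl | rfl | rfl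
    · rw [if_pos rfl]
      refine if_neg fun hmem => ?_
      -- conjugation preserves the central involution
      set d : (S : Subgroup G) := ⟨g⁻¹ * u ^ 1 * g, hm⟩
      have hdd : (d : G) * d = g⁻¹ * (z : G) * g := by
        show g⁻¹ * u ^ 1 * g * (g⁻¹ * u ^ 1 * g) = _
        rw [pow_one, ← hu2]; group
      have hd1 : d * d ≠ 1 := fun e1 => by
        have e2 := congrArg Subtype.val e1
        rw [Subgroup.coe_mul, hdd, OneMemClass.coe_one] at e2
        have e3 : (z : G) = 1 := by
          rw [show (z : G) = g * (g⁻¹ * (z : G) * g) * g⁻¹ by group, e2]; group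
        rw [e3, orderOf_one] at hzG
        omega
      have hd4 : d * d * (d * d) = 1 := Subtype.ext (by
        show (d : G) * d * ((d : G) * d) = 1
        rw [hdd, show g⁻¹ * (z : G) * g * (g⁻¹ * (z : G) * g) = g⁻¹ * ((z : G) * z) * g by group,
          Involutions.mul_self_eq_one_of_orderOf hzG]
        group)
      -- squares are in the cyclic part
      obtain ⟨i, hi⟩ : ∃ i : ℤ, d * d = a ^ i := by
        obtain ⟨i, hi⟩ := mul_self_mem_of_index_two hRidx d
        exact ⟨i, hi.symm⟩
      have hdz : d * d = z := by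
        have h2 : a ^ (i + i) = 1 := by rw [zpow_add, ← hi]; exact hd4
        have h3 := orderOf_dvd_iff_zpow_eq_one.mpr h2
        rw [ha] at h3
        obtain ⟨q, hq⟩ := h3
        have hiq : i = (2 ^ (k + 2) : ℕ) * q := by
          push_cast [pow_succ] at hq ⊢
          linarith
        rw [hi, hiq, zpow_mul, zpow_natCast] at hd1 ⊢
        obtain ⟨l, rfl | rfl⟩ := Int.even_or_odd' q
        · exact absurd (by rw [zpow_mul, zpow_two, Involutions.mul_self_eq_one_of_orderOf hz, one_zpow]) hd1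
        · show z ^ (2 * l + 1) = z
          rw [zpow_add_one, zpow_mul, zpow_two, Involutions.mul_self_eq_one_of_orderOf hz, one_zpow, one_mul]
      have hgC : g ∈ centralizer ({(z : G)} : Set G) := by
        have e1 : g⁻¹ * (z : G) * g = (z : G) := by rw [← hdd, ← Subgroup.coe_mul, hdz]
        refine mem_centralizer_singleton_iff.mpr ?_
        nth_rewrite 1 [← e1]
        group
      rw [hCz] at hgC
      have := hMn.conj_mem d hmem ⟨g, hgC⟩
      refine hyM ?_
      convert this using 1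
      exact Subtype.ext (by show u = g * (g⁻¹ * u ^ 1 * g) * g⁻¹; rw [pow_one]; group)
    · rw [if_neg (by norm_num)]
      refine if_pos (hinvM _ (Subtype.ext ?_))
      show g⁻¹ * u ^ 2 * g * (g⁻¹ * u ^ 2 * g) = 1
      rw [show g⁻¹ * u ^ 2 * g * (g⁻¹ * u ^ 2 * g) = g⁻¹ * u ^ 4 * g by group, hu4]
      group
    · rw [if_neg (by norm_num)]
      refine if_pos (hinvM _ (Subtype.ext ?_))
      show g⁻¹ * u ^ 4 * g * (g⁻¹ * u ^ 4 * g) = 1
      rw [hu4]
      group
  have hper : ∀ q : G ⧸ (S : Subgroup G), Function.minimalPeriod (u • ·) q ∣ 4 := fun q => by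
    refine Function.IsPeriodicPt.minimalPeriod_dvd ?_
    show (fun x : G ⧸ (S : Subgroup G) => u • x)^[4] q = q
    rw [smul_iterate, hu4]
    exact one_smul G q
  have hfix : ∀ q : G ⧸ (S : Subgroup G), u • q = q → q = ((1 : G) : G ⧸ (S : Subgroup G)) := by
    intro q hq
    induction q using QuotientGroup.induction_on with
    | H g =>
      have hm : g⁻¹ * u * g ∈ (S : Subgroup G) := by
        have h1 := inv_mem (QuotientGroup.eq.mp (show ((u * g : G) : G ⧸ (S : Subgroup G)) = (g : G ⧸ _) from hq))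
        rwa [show ((u * g)⁻¹ * g)⁻¹ = g⁻¹ * u * g by group] at h1
      refine QuotientGroup.eq.mpr ?_
      rw [mul_one, inv_mem_iff]
      set d : (S : Subgroup G) := ⟨g⁻¹ * u * g, hm⟩
      have hdd : (d : G) * d = g⁻¹ * (z : G) * g := by
        show g⁻¹ * u * g * (g⁻¹ * u * g) = _
        rw [← hu2]; group
      obtain ⟨i, hi⟩ : ∃ i : ℤ, d * d = a ^ i := by
        obtain ⟨i, hi⟩ := mul_self_mem_of_index_two hRidx d
        exact ⟨i, hi.symm⟩
      have ho : orderOf (a ^ i) = 2 := by
        rw [← hi, ← Subgroup.orderOf_coe, Subgroup.coe_mul, hdd,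
          show g⁻¹ * (z : G) * g = g⁻¹ * (z : G) * g⁻¹⁻¹ by group, Involutions.orderOf_conj, hzG]
      have h2 : a ^ (i + i) = 1 := by rw [zpow_add]; exact Involutions.mul_self_eq_one_of_orderOf ho
      have h3 := orderOf_dvd_iff_zpow_eq_one.mpr h2
      rw [ha] at h3
      obtain ⟨q', hq'⟩ := h3
      have hiq : i = (2 ^ (k + 2) : ℕ) * q' := by
        push_cast [pow_succ] at hq' ⊢
        linarith
      rw [hiq, zpow_mul, zpow_natCast] at hi ho
      have hdz : d * d = z := by
        rw [hi]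
        obtain ⟨l, rfl | rfl⟩ := Int.even_or_odd' q'
        · rw [zpow_mul, zpow_two] at ho
          have hzz : a ^ 2 ^ (k + 2) * a ^ 2 ^ (k + 2) = 1 := Involutions.mul_self_eq_one_of_orderOf hz
          rw [hzz, one_zpow, orderOf_one] at ho
          omega
        · show z ^ (2 * l + 1) = z
          rw [zpow_add_one, zpow_mul, zpow_two, Involutions.mul_self_eq_one_of_orderOf hz, one_zpow, one_mul]
      have e1 : g⁻¹ * (z : G) * g = (z : G) := by rw [← hdd, ← Subgroup.coe_mul, hdz]
      rw [← hCz]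
      refine mem_centralizer_singleton_iff.mpr ?_
      nth_rewrite 1 [← e1]
      group
  have hV : V u = -1 := by
    show MonoidHom.transfer ψ u = _
    rw [MonoidHom.transfer_eq_prod_quotient_orbitRel_zpowers_quot]
    set o₁ : Quotient (MulAction.orbitRel (zpowers u) (G ⧸ (S : Subgroup G))) := ⟦((1 : G) : G ⧸ (S : Subgroup G))⟧
    have h1fix : u • ((1 : G) : G ⧸ (S : Subgroup G)) = ((1 : G) : G ⧸ (S : Subgroup G)) := by
      refine QuotientGroup.eq.mpr ?_
      show (u * 1)⁻¹ * 1 ∈ (S : Subgroup G)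
      simp [hu]
    have ho₁ : o₁.out = ((1 : G) : G ⧸ (S : Subgroup G)) := by
      obtain ⟨⟨w, l, rfl⟩, hw⟩ := MulAction.orbitRel_apply.mp
        (Quotient.mk_out (s := MulAction.orbitRel (zpowers u) (G ⧸ (S : Subgroup G))) ((1 : G) : G ⧸ (S : Subgroup G)))
      rw [← hw]
      show (u ^ l) • ((1 : G) : G ⧸ (S : Subgroup G)) = ((1 : G) : G ⧸ (S : Subgroup G))
      exact zpow_mem (show u ∈ MulAction.stabilizer G ((1 : G) : G ⧸ (S : Subgroup G)) from h1fix) l
    rw [Finset.prod_eq_single o₁ (fun o _ ho => ?_) (fun h => absurd (Finset.mem_univ _) h)]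
    · refine (hterm _ _ _ (hper _)).trans (if_pos ?_)
      exact Function.minimalPeriod_eq_one_iff_isFixedPt.mpr (by rw [ho₁]; exact h1fix)
    · refine (hterm _ _ _ (hper _)).trans (if_neg fun h1 => ho ?_)
      rw [← Quotient.out_eq o, hfix _ (Function.minimalPeriod_eq_one_iff_isFixedPt.mp h1)]
  rcases (inferInstance : V.ker.Normal).eq_bot_or_eq_top with e1 | e1
  · refine hna ⟨⟨fun p q => (MonoidHom.ker_eq_bot_iff V).mp e1 ?_⟩⟩
    rw [map_mul, map_mul, mul_comm]
  · have := MonoidHom.mem_ker.mp (e1 ▸ mem_top u : u ∈ V.ker)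
    rw [hV] at this
    exact absurd this (by decide)

theorem exists_psl [IsSimpleGroup G] (hna : ¬ IsMulCommutative G) (h : SCNC G) :
    ∃ (S : Sylow 2 G) (t : G), orderOf t = 2 ∧ centralizer ({t} : Set G) = (S : Subgroup G) ∧
      ∃ (F : Type) (_ : Field F) (_ : Fintype F), Odd (Fintype.card F) ∧
        Nonempty (G ≃* Matrix.ProjectiveSpecialLinearGroup (Fin 2) F) := by
  haveI : Fact (Nat.Prime 2) := ⟨Nat.prime_two⟩
  have h2 := two_dvd hna fun he => Cfsg.Agent.S0205.result (Nat.odd_iff.mpr (by omega))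
  obtain ⟨S, s₁, s₂, hs₁, hs₂, hne, hc, hm₁, hm₂⟩ := exists_four hna h2
  -- a central involution
  obtain ⟨z0, hz01, ⟨k0, hk0⟩, hz0S, hR⟩ := ConjRankThree.exists_central_sylow h2 S
  have hd : 2 ∣ orderOf z0 := by
    rw [hk0]
    refine dvd_pow_self 2 fun e => hz01 (orderOf_eq_one_iff.mp ?_)
    rw [hk0, e, pow_zero]
  set t := z0 ^ (orderOf z0 / 2)
  have ht : orderOf t = 2 := orderOf_pow_orderOf_div (orderOf_pos z0).ne' hd
  have htS : t ∈ (S : Subgroup G) := pow_mem hz0S _
  have htZ : ∀ y ∈ (S : Subgroup G), Commute y t := fun y hy =>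
    (show Commute y z0 from ConjRankThree.mem_cent.mp (hR hy)).pow_right _
  have hC : ∀ t : G, orderOf t = 2 → t ∈ (S : Subgroup G) → (∀ y ∈ (S : Subgroup G), Commute y t) →
      centralizer ({t} : Set G) = (S : Subgroup G) := by
    intro t ht htS htZ
    by_cases e : s₁ = t
    · exact cent_eq h S hs₂ ht (fun e' => hne (e.trans e'.symm)) hm₂ htS htZ
    · exact cent_eq h S hs₁ ht e hm₁ htS htZ
  obtain ⟨s, hs, hst, hsS⟩ : ∃ s, orderOf s = 2 ∧ s ≠ t ∧ s ∈ (S : Subgroup G) := by
    by_cases e : s₁ = t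
    · exact ⟨s₂, hs₂, fun e' => hne (e.trans e'.symm), hm₂⟩
    · exact ⟨s₁, hs₁, e, hm₁⟩
  obtain ⟨n, hn⟩ := S.2.exists_card_eq
  have hle : closure ({s, t} : Set G) ≤ S := (closure_le _).mpr (Set.insert_subset hsS (Set.singleton_subset_iff.mpr htS))
  obtain ⟨r, hrS, htr, hsr, hsplit⟩ := exists_R h S hs ht hst hsS htS htZ
  have hO : ∀ O : Subgroup G,
      O = (Cfsg.oddCore (centralizer ({t} : Set G))).map (centralizer ({t} : Set G)).subtype → O = ⊥ := by
    intro O e
    rw [e, Subgroup.map_eq_bot_iff_of_injective _ (subtype_injective _), ← Subgroup.card_eq_one]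
    refine Nat.eq_one_of_dvd_coprimes (?_ : Nat.Coprime (Nat.card (Cfsg.oddCore (centralizer ({t} : Set G)))) (2 ^ n))
      dvd_rfl ?_
    · exact Nat.Coprime.pow_right _ (Nat.coprime_two_right.mpr odd_card_oddCore)
    · rw [← hn]
      refine (card_subgroup_dvd_card _).trans ?_
      rw [hC t ht htS htZ]
  have key : ∀ m : ℕ, 2 ≤ m → ((S : Subgroup G) ≃* DihedralGroup m) →
      ∃ (F : Type) (_ : Field F) (_ : Fintype F), Odd (Fintype.card F) ∧
        Nonempty (G ≃* Matrix.ProjectiveSpecialLinearGroup (Fin 2) F) := by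
    intro m hm e
    refine Cfsg.Agent.S0508.result S m hm ⟨e⟩ t ht htS (fun y hy => (htZ y hy).eq) _ rfl ?_ ?_ ?_
    · intro hne; exact absurd (hO _ rfl) hne
    · intro y hy hny
      refine absurd (mem_centralizer_iff.mpr fun w hw => ?_) hny
      rw [SetLike.mem_coe, hO _ rfl, mem_bot] at hw
      rw [hw, one_mul, mul_one]
    · intro Y hY hne
      exact absurd (eq_bot_iff.mpr (hY.trans (hO _ rfl).le)) hne
  refine ⟨S, t, ht, hC t ht htS htZ, ?_⟩
  -- the order of the four-group
  let A : Subgroup (S : Subgroup G) := (closure ({s, t} : Set G)).subgroupOf S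
  have hs2 := Involutions.mul_self_eq_one_of_orderOf hs
  have ht2 := Involutions.mul_self_eq_one_of_orderOf ht
  have hst' : Commute s t := htZ s hsS
  have hmem : ∀ y, y ∈ closure ({s, t} : Set G) → Commute y s ∧ Commute y t := by
    intro y hy
    obtain ⟨k, hk⟩ := Involutions.mem_closure_pair hs2 ht2 hy
    have c1 : Commute (s * t) s := (Commute.refl s).mul_left hst'.symm
    have c2 : Commute (s * t) t := hst'.mul_left (Commute.refl t)
    rcases hk with rfl | rfl
    · exact ⟨c1.zpow_left k, c2.zpow_left k⟩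
    · exact ⟨(Commute.refl s).mul_left (c1.zpow_left k), hst'.mul_left (c2.zpow_left k)⟩
  have h4 : ((closure ({s, t} : Set G) : Subgroup G) : Set G) = {1, s, t, s * t} := by
    ext y
    simp only [SetLike.mem_coe, Set.mem_insert_iff, Set.mem_singleton_iff]
    refine ⟨fun hy => four_cent h hs ht hst hst' (hmem y hy).1 (hmem y hy).2, ?_⟩
    rintro (rfl | rfl | rfl | rfl)
    exacts [one_mem _, subset_closure (Or.inl rfl), subset_closure (Or.inr rfl),
      mul_mem (subset_closure (Or.inl rfl)) (subset_closure (Or.inr rfl))]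
  have hAcard : Nat.card A = 2 ^ 2 := by
    rw [Nat.card_congr (subgroupOfEquivOfLe hle).toEquiv, ← SetLike.coe_sort_coe, h4, Nat.card_coe_set_eq]
    have hs1 : s ≠ 1 := fun e => by rw [e, orderOf_one] at hs; omega
    have ht1 : t ≠ 1 := fun e => by rw [e, orderOf_one] at ht; omega
    have hst1 : s * t ≠ 1 := fun e => hst (by
      rw [eq_inv_of_mul_eq_one_left e, Involutions.inv_eq_self_of_orderOf ht])
    rw [Set.ncard_insert_of_notMem (by simp [hs1.symm, ht1.symm, Ne.symm hst1]),
      Set.ncard_insert_of_notMem (by simp [hst, ht1]),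
      Set.ncard_insert_of_notMem (by simp [hs1]), Set.ncard_singleton]
    norm_num
  have hAC : centralizer (A : Set (S : Subgroup G)) = A := by
    refine le_antisymm (fun y hy => ?_) (fun y hy => mem_centralizer_iff.mpr fun w hw => Subtype.ext ?_)
    · rw [mem_subgroupOf]
      have e1 : Commute (y : G) s := (congrArg Subtype.val (mem_centralizer_iff.mp hy ⟨s, hsS⟩
        (mem_subgroupOf.mpr (subset_closure (Or.inl rfl))))).symm
      rcases four_cent h hs ht hst hst' e1 (htZ y y.2) with e | e | e | e <;> rw [e]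
      exacts [one_mem _, subset_closure (Or.inl rfl), subset_closure (Or.inr rfl),
        mul_mem (subset_closure (Or.inl rfl)) (subset_closure (Or.inr rfl))]
    · obtain ⟨c1, c2⟩ := hmem w (mem_subgroupOf.mp hw)
      obtain ⟨k, hk⟩ := Involutions.mem_closure_pair hs2 ht2 (mem_subgroupOf.mp hy)
      show (w : G) * y = y * w
      rcases hk with e | e <;> rw [e]
      · exact ((c1.mul_right c2).zpow_right k).eq
      · exact (c1.mul_right ((c1.mul_right c2).zpow_right k)).eq
  by_cases hn3 : n < 3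
  · have hd : Nat.card A ∣ Nat.card (S : Subgroup G) := card_subgroup_dvd_card A
    rw [hAcard, hn] at hd
    have hn2 : n = 2 := by have := (Nat.pow_dvd_pow_iff_le_right (by norm_num : 1 < 2)).mp hd; omega
    haveI : IsKleinFour (S : Subgroup G) := by
      refine ⟨by rw [hn, hn2]; norm_num, ?_⟩
      have htop : A = ⊤ := eq_top_of_card_eq _ (by rw [hAcard, hn, hn2])
      have hsq : ∀ y : (S : Subgroup G), y ^ 2 = 1 := fun y => Subtype.ext (by
        have hy : (y : G) ∈ closure ({s, t} : Set G) := mem_subgroupOf.mp (show y ∈ A by rw [htop]; exact mem_top y)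
        rw [← SetLike.mem_coe, h4] at hy
        simp only [Set.mem_insert_iff, Set.mem_singleton_iff] at hy
        rw [SubmonoidClass.coe_pow, OneMemClass.coe_one, pow_two]
        rcases hy with e | e | e | e <;> rw [e]
        · exact one_mul 1
        · exact hs2
        · exact ht2
        · calc s * t * (s * t) = s * (t * s) * t := by group
            _ = (s * s) * (t * t) := by rw [← hst'.eq]; group
            _ = 1 := by rw [hs2, ht2, mul_one])
      refine (Nat.dvd_prime Nat.prime_two).mp (Monoid.exponent_dvd_of_forall_pow_eq_one hsq) |>.resolve_left fun e => ?_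
      haveI := Monoid.exp_eq_one_iff.mp e
      have hc1 : Nat.card (S : Subgroup G) = 1 := Nat.card_eq_one_iff_unique.mpr ⟨this, ⟨1⟩⟩
      rw [hn, hn2] at hc1
      norm_num at hc1
    obtain ⟨e⟩ := IsKleinFour.nonempty_mulEquiv (G₁ := (S : Subgroup G)) (G₂ := DihedralGroup 2)
    exact key 2 le_rfl e
  push Not at hn3
  have hclass := Cfsg.Agent.S0112.result n hn A hAcard hAC
  have hK := (Cfsg.Agent.S0115.result n hn3 hn).mp hclass
  have hab : Nat.card (Abelianization (S : Subgroup G)) = 4 := hK.card_four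
  have hexp : ∀ x : Abelianization (S : Subgroup G), x ^ 2 = 1 := fun x => by
    have h2' : Monoid.exponent (Abelianization (S : Subgroup G)) = 2 := hK.exponent_two
    have := Monoid.pow_exponent_eq_one x
    rwa [h2'] at this
  rcases Cfsg.Agent.S4399.result S.2 hab hexp with e | ⟨k, ⟨e⟩⟩ | ⟨k, hk, a, b, ha, hb, hab'⟩ | ⟨k, ⟨e⟩⟩
  · exfalso
    rw [hn] at e
    have : 2 ^ 3 ≤ 2 ^ n := Nat.pow_le_pow_right (by norm_num) hn3
    omega
  · exact key _ (le_trans (by norm_num : 2 ≤ 2 ^ 1) (Nat.pow_le_pow_right (by norm_num) (by omega))) e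
  · exact absurd (not_semidihedral hna S k hk a b ha hb hab' hC) id
  · exfalso
    -- quaternion groups have one involution
    have h1 : e ⟨s, hsS⟩ * e ⟨s, hsS⟩ = 1 := by
      rw [← map_mul, show (⟨s, hsS⟩ : (S : Subgroup G)) * ⟨s, hsS⟩ = 1 from Subtype.ext hs2, map_one]
    have h2' : e ⟨t, htS⟩ * e ⟨t, htS⟩ = 1 := by
      rw [← map_mul, show (⟨t, htS⟩ : (S : Subgroup G)) * ⟨t, htS⟩ = 1 from Subtype.ext ht2, map_one]
    have uniq : ∀ x : QuaternionGroup (2 ^ (k + 1)), x * x = 1 → x ≠ 1 →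
        x = QuaternionGroup.a ((2 ^ (k + 1) : ℕ) : ZMod (2 * 2 ^ (k + 1))) := by
      intro x hx hx1
      rcases x with i | i
      · rw [QuaternionGroup.a_mul_a, QuaternionGroup.one_def] at hx
        injection hx with hx
        obtain ⟨v, rfl⟩ := ZMod.intCast_surjective i
        rw [← Int.cast_add, ZMod.intCast_zmod_eq_zero_iff_dvd] at hx
        obtain ⟨q, hq⟩ := hx
        have hv : v = ((2 ^ (k + 1) : ℕ) : ℤ) * q := by push_cast at hq ⊢; linarith
        obtain ⟨l, rfl | rfl⟩ := Int.even_or_odd' q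
        · exfalso
          refine hx1 ?_
          rw [QuaternionGroup.one_def]
          congr 1
          rw [ZMod.intCast_zmod_eq_zero_iff_dvd]
          exact ⟨l, by rw [hv]; push_cast; ring⟩
        · congr 1
          rw [← Int.cast_natCast, ZMod.intCast_eq_intCast_iff_dvd_sub]
          exact ⟨-l, by rw [hv]; push_cast; ring⟩
      · rw [QuaternionGroup.xa_mul_xa, QuaternionGroup.one_def] at hx
        injection hx with hx
        rw [add_sub_cancel_right] at hx
        have hd : (2 * 2 ^ (k + 1)) ∣ 2 ^ (k + 1) := (ZMod.natCast_eq_zero_iff _ _).mp hx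
        have := Nat.le_of_dvd (by positivity) hd
        have : 0 < 2 ^ (k + 1) := by positivity
        omega
    have hs1 : e ⟨s, hsS⟩ ≠ 1 := fun e' => by
      have e2 : (⟨s, hsS⟩ : (S : Subgroup G)) = 1 := e.injective (e'.trans (map_one e).symm)
      rw [show s = 1 from congrArg Subtype.val e2, orderOf_one] at hs
      omega
    have ht1 : e ⟨t, htS⟩ ≠ 1 := fun e' => by
      have e2 : (⟨t, htS⟩ : (S : Subgroup G)) = 1 := e.injective (e'.trans (map_one e).symm)
      rw [show t = 1 from congrArg Subtype.val e2, orderOf_one] at ht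
      omega
    exact hst (congrArg Subtype.val (e.injective ((uniq _ h1 hs1).trans (uniq _ h2' ht1).symm)))

end CfsgLib.SCNonCyclic
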