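import Cfsg.Agent.Lib.PSL2Klein
import Cfsg.Agent.Lib.SL2Char.Tori
import Cfsg.Agent.Lib.SLCard
import Cfsg.Agent.S2507

set_option autoImplicit false

/-!
Centralizers in `PSL₂(q)` and the self-centralizing condition.
-/

namespace CfsgLib.SCNonCyclic

open Matrix Subgroup CfsgLib.PSL2 CfsgLib.PSL2Klein

variable {F : Type*} [Field F] [Fintype F]

local notation "M2" => Matrix (Fin 2) (Fin 2) F
local notation "SL2" => Matrix.SpecialLinearGroup (Fin 2) F
local notation "PSL" => Matrix.ProjectiveSpecialLinearGroup (Fin 2) F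

theorem card_comap_mk (hodd : Odd (Fintype.card F)) (H : Subgroup PSL) :
    Nat.card (H.comap (PSL2.mk : SL2 →* PSL)) = 2 * Nat.card H := by
  have h2 : Nat.gcd 2 (Fintype.card F - 1) = 2 := Nat.gcd_eq_left (by obtain ⟨m, hm⟩ := hodd; omega)
  have h1 := SLCard.gcd_mul_card_PSL (F := F) (n := 2) (by norm_num)
  rw [h2] at h1
  have hi : (H.comap (PSL2.mk : SL2 →* PSL)).index = H.index :=
    index_comap_of_surjective _ (QuotientGroup.mk'_surjective _)
  have e1 := (H.comap (PSL2.mk : SL2 →* PSL)).card_mul_index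
  rw [hi, ← h1, ← H.card_mul_index, ← mul_assoc] at e1
  exact Nat.eq_of_mul_eq_mul_right (Nat.pos_of_ne_zero index_ne_zero_of_finite) e1

/-- The centralizer of an involution has order `q ∓ 1`. -/
theorem card_cent_invol (hodd : Odd (Fintype.card F)) {x : PSL} (hx : orderOf x = 2) :
    Nat.card (centralizer ({x} : Set PSL)) = Fintype.card F - 1 ∨
      Nat.card (centralizer ({x} : Set PSL)) = Fintype.card F + 1 := by
  have h2 := SL2Orders.two_ne_zero_of_odd hodd
  obtain ⟨g, rfl⟩ := QuotientGroup.mk'_surjective _ x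
  have hg : g.1.trace = 0 := (invol_iff h2).mp
    ⟨fun e => by rw [e, orderOf_one] at hx; omega, by rw [← pow_two]; exact orderOf_dvd_iff_pow_eq_one.mp hx.dvd⟩
  have h1 := card_comap_mk hodd (centralizer ({PSL2.mk g} : Set PSL))
  have h3 : Nat.card ((centralizer ({PSL2.mk g} : Set PSL)).comap (PSL2.mk : SL2 →* PSL)) =
      Nat.card {k : SL2 // k * g = g * k ∨ k * g = -g * k} := by
    refine Nat.card_congr (Equiv.subtypeEquivRight fun k => ?_)
    rw [mem_comap, mem_centralizer_singleton_iff, ← map_mul, ← map_mul, mk_eq_iff]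
    constructor
    · rintro (e | e)
      · exact Or.inl e.symm
      · exact Or.inr (by rw [neg_mul, e, neg_neg])
    · rintro (e | e)
      · exact Or.inl e.symm
      · exact Or.inr (by rw [e, neg_mul, neg_neg])
  rw [h3, card_normalizer h2 hg] at h1
  have hq : Fintype.card F % 4 = 1 ∨ Fintype.card F % 4 = 3 := by obtain ⟨m, hm⟩ := hodd; omega
  have h1' := Nat.eq_of_mul_eq_mul_left (by norm_num) h1
  rcases hq with hq | hq
  · exact Or.inl (h1'.symm.trans (card_centralizer_one h2 hg hq))
  · exact Or.inr (h1'.symm.trans (card_centralizer_three h2 hg hq))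

/-- A prime power next to a power of two. -/
theorem prime_of_adjacent {p m k : ℕ} (hp : p.Prime) (hodd : Odd p) (hm : 0 < m)
    (h : p ^ m = 2 ^ k + 1 ∨ p ^ m + 1 = 2 ^ k) : m = 1 ∨ p ^ m = 9 := by
  by_cases hm1 : m = 1
  · exact Or.inl hm1
  have hp3 : 3 ≤ p := by have := hp.two_le; obtain ⟨i, hi⟩ := hodd; omega
  rcases Nat.even_or_odd m with ⟨l, hl⟩ | ⟨l, hl⟩
  · -- even exponents
    right
    have hsq : p ^ m = p ^ l * p ^ l := by rw [hl, pow_add]
    obtain ⟨i, hi⟩ : Odd (p ^ l) := hodd.pow
    rcases h with h | h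
    · have hf : (p ^ l - 1) * (p ^ l + 1) = 2 ^ k := by
        rw [hi]
        rw [hsq, hi] at h
        simp only [add_tsub_cancel_right]
        nlinarith
      obtain ⟨a, -, ha⟩ := (Nat.dvd_prime_pow Nat.prime_two).mp (Dvd.intro _ hf : p ^ l - 1 ∣ 2 ^ k)
      obtain ⟨b, -, hb⟩ := (Nat.dvd_prime_pow Nat.prime_two).mp (Dvd.intro_left _ hf : p ^ l + 1 ∣ 2 ^ k)
      have hab : 2 ^ b = 2 ^ a + 2 := by
        have : 1 ≤ p ^ l := Nat.one_le_pow _ _ hp.pos
        omega
      rcases Nat.lt_or_ge a 2 with ha2 | ha2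
      · interval_cases a
        · exfalso
          norm_num at hab
          rcases Nat.eq_zero_or_pos b with rfl | hb0
          · norm_num at hab
          · have : 2 ∣ 2 ^ b := dvd_pow_self 2 hb0.ne'
            rw [hab] at this
            omega
        · norm_num at hab
          have hl3 : p ^ l = 3 := by
            have : 2 ^ b = 4 := hab
            omega
          rw [hsq, hl3]
      · exfalso
        have h4a : 4 ∣ 2 ^ a := Dvd.intro _ (show 2 ^ 2 * 2 ^ (a - 2) = 2 ^ a by rw [← pow_add]; congr 1; omega)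
        rcases Nat.lt_or_ge b 2 with hb2 | hb2
        · have : 4 ≤ 2 ^ a := Nat.le_of_dvd (by positivity) h4a
          interval_cases b <;> omega
        · have h4b : 4 ∣ 2 ^ b := Dvd.intro _ (show 2 ^ 2 * 2 ^ (b - 2) = 2 ^ b by rw [← pow_add]; congr 1; omega)
          omega
    · exfalso
      rw [hsq, hi] at h
      have e : (2 * i + 1) * (2 * i + 1) = 4 * (i * i + i) + 1 := by ring
      have hbig : 9 ≤ (2 * i + 1) * (2 * i + 1) := by
        rw [← hi]
        have : 3 ≤ p ^ l := le_trans hp3 (Nat.le_self_pow (by omega) p)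
        calc 9 = 3 * 3 := rfl
          _ ≤ _ := Nat.mul_le_mul this this
      rcases Nat.lt_or_ge k 2 with hk2 | hk2
      · interval_cases k <;> omega
      · have h4 : 4 ∣ 2 ^ k := Dvd.intro _ (show 2 ^ 2 * 2 ^ (k - 2) = 2 ^ k by rw [← pow_add]; congr 1; omega)
        omega
  · -- odd exponents
    exfalso
    have hl0 : 1 ≤ l := by omega
    have hlt : p < p ^ m := by
      calc p = p ^ 1 := (pow_one p).symm
        _ < _ := Nat.pow_lt_pow_right hp.one_lt (by omega)
    have key : ∀ δ : ℤ, (δ = 1 ∨ δ = -1) → ((p : ℤ) ^ m - δ = 2 ^ k) → False := by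
      intro δ hδ hk
      have hsum : (∑ i ∈ Finset.range m, (δ * p : ℤ) ^ i) * (δ * p - 1) = δ * 2 ^ k := by
        rw [geom_sum_mul, mul_pow, ← hk]
        have : δ ^ m = δ := by
          rcases hδ with rfl | rfl
          · simp
          · exact Odd.neg_one_pow ⟨l, hl⟩
        rw [this]
        rcases hδ with rfl | rfl <;> ring
      have hS : ¬ (2 : ℤ) ∣ ∑ i ∈ Finset.range m, (δ * p : ℤ) ^ i := by
        intro h2
        have h3 := (ZMod.intCast_zmod_eq_zero_iff_dvd _ 2).mpr h2
        push_cast at h3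
        have hp1 : (p : ZMod 2) = 1 := ZMod.natCast_eq_one_iff_odd.mpr hodd
        have hd1 : (δ : ZMod 2) = 1 := by rcases hδ with rfl | rfl <;> simp
        rw [Finset.sum_congr rfl (fun i _ => by rw [hp1, hd1, mul_one, one_pow]), Finset.sum_const, Finset.card_range,
          nsmul_one, ZMod.natCast_eq_one_iff_odd.mpr ⟨l, hl⟩] at h3
        exact one_ne_zero h3
      -- an odd divisor of a power of two
      have hdvd : (∑ i ∈ Finset.range m, (δ * p : ℤ) ^ i).natAbs ∣ 2 ^ k := by
        have h4 : (∑ i ∈ Finset.range m, (δ * p : ℤ) ^ i).natAbs * (δ * p - 1).natAbs = 2 ^ k := by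
          rw [← Int.natAbs_mul, hsum, Int.natAbs_mul, Int.natAbs_pow]
          rcases hδ with rfl | rfl <;> simp
        exact Dvd.intro _ h4
      obtain ⟨j, -, hj⟩ := (Nat.dvd_prime_pow Nat.prime_two).mp hdvd
      have hj0 : j = 0 := by
        by_contra h0
        refine hS (Int.natAbs_dvd_natAbs.mp ?_)
        rw [hj]
        exact dvd_pow_self 2 h0
      have habs : (δ * p - 1).natAbs = 2 ^ k := by
        have := congrArg Int.natAbs hsum
        rw [Int.natAbs_mul, hj, hj0, pow_zero, one_mul, Int.natAbs_mul, Int.natAbs_pow] at this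
        rw [this]
        rcases hδ with rfl | rfl <;> simp
      have hk' : (((p : ℤ) ^ m - δ).natAbs) = 2 ^ k := by rw [hk, Int.natAbs_pow]; rfl
      rw [← habs] at hk'
      have hlt' : (p : ℤ) < (p : ℤ) ^ m := by exact_mod_cast hlt
      rcases hδ with rfl | rfl <;> omega
    rcases h with h | h
    · exact key 1 (Or.inl rfl) (by
        have : ((p ^ m : ℕ) : ℤ) = ((2 ^ k + 1 : ℕ) : ℤ) := by rw [h]
        push_cast at this
        linarith)
    · exact key (-1) (Or.inr rfl) (by
        have : ((p ^ m + 1 : ℕ) : ℤ) = ((2 ^ k : ℕ) : ℤ) := by rw [h]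
        push_cast at this
        linarith)

/-- The centralizer of a non-scalar element of trace `±2` has order `2q`. -/
theorem card_cent_unip (h2 : (2 : F) ≠ 0) {g : SL2} (hg : ∀ a : F, g.1 ≠ a • (1 : M2))
    (ht : g.1.trace ^ 2 = 4) : Nat.card (centralizer ({g} : Set SL2)) = 2 * Fintype.card F := by
  rw [SL2Centralizer.card_centralizer_eq_conic hg]
  obtain ⟨d, hd, hdt⟩ : ∃ d : F, d * d = 1 ∧ g.1.trace = 2 * d := by
    refine ⟨g.1.trace / 2, ?_, by field_simp⟩
    field_simp
    linear_combination ht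
  rw [hdt]
  let f : {p : F × F // p.1 * p.1 + 2 * d * p.1 * p.2 + p.2 * p.2 = 1} ≃ {e : F // e * e = 1} × F :=
    { toFun := fun p => (⟨p.1.1 + d * p.1.2, by linear_combination p.2 + (p.1.2 * p.1.2) * hd⟩, p.1.2)
      invFun := fun q => ⟨(q.1.1 - d * q.2, q.2), by linear_combination q.1.2 - (q.2 * q.2) * hd⟩
      left_inv := fun p => Subtype.ext (Prod.ext (by ring) rfl)
      right_inv := fun q => Prod.ext (Subtype.ext (by ring)) rfl }
  rw [Nat.card_congr f, Nat.card_prod, Nat.card_eq_fintype_card (α := F)]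
  congr 1
  show Nat.card ↥{e : F | e * e = 1} = 2
  have hset : {e : F | e * e = 1} = {1, -1} := by
    ext e
    simp [mul_self_eq_one_iff]
  rw [hset, Nat.card_coe_set_eq, Set.ncard_pair]
  intro e
  exact h2 (by linear_combination e)

theorem sq_nine_noncyclic {G : Type*} [Group G] [Finite G] {A H : Subgroup G} (hA : Nat.card A = 9)
    (hH : H ≤ A) (hnc : ¬ IsCyclic H) : A ≤ H := by
  have hd := card_dvd_of_le hH
  rw [hA] at hd
  obtain ⟨i, hi, hc⟩ := (Nat.dvd_prime_pow Nat.prime_three).mp (show Nat.card H ∣ 3 ^ 2 by norm_num; exact hd)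
  haveI : Fact (Nat.Prime 3) := ⟨Nat.prime_three⟩
  interval_cases i
  · haveI : Subsingleton H := (Nat.card_eq_one_iff_unique.mp (by simpa using hc)).1
    exact absurd (inferInstance : IsCyclic H) hnc
  · exact absurd (isCyclic_of_prime_card (p := 3) (by simpa using hc)) hnc
  · exact (eq_of_le_of_card_ge hH (by rw [hA, hc]; norm_num)).ge

theorem scnc_odd (hodd : Odd (Fintype.card F))
    (hq : Fintype.card F = 9 ∨ ((Fintype.card F).Prime ∧ ∃ k : ℕ, Fintype.card F = 2 ^ k + 1 ∨ Fintype.card F + 1 = 2 ^ k))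
    (H : Subgroup PSL) (hnc : ¬ IsCyclic H) : centralizer (H : Set PSL) ≤ H := by
  intro x hx
  rcases eq_or_ne x 1 with rfl | hx1
  · exact one_mem _
  have h2 := SL2Orders.two_ne_zero_of_odd hodd
  have hHx : H ≤ centralizer ({x} : Set PSL) := fun y hy =>
    mem_centralizer_singleton_iff.mpr (mem_centralizer_iff.mp hx y hy)
  obtain ⟨g, rfl⟩ := QuotientGroup.mk'_surjective _ x
  have hns : ∀ a : F, g.1 ≠ a • (1 : M2) := PSL2Product.not_scalar_of_mk hx1
  set C := centralizer ({g} : Set SL2)
  set R := C.map (PSL2.mk : SL2 →* PSL)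
  have hcomap : ∀ k : SL2, PSL2.mk k ∈ centralizer ({PSL2.mk g} : Set PSL) ↔ (k * g = g * k ∨ k * g = -g * k) := by
    intro k
    rw [mem_centralizer_singleton_iff, ← map_mul, ← map_mul, mk_eq_iff]
    constructor
    · rintro (e | e)
      · exact Or.inl e.symm
      · exact Or.inr (by rw [neg_mul, e, neg_neg])
    · rintro (e | e)
      · exact Or.inl e.symm
      · exact Or.inr (by rw [e, neg_mul, neg_neg])
  by_cases htr : g.1.trace = 0
  · -- involutions
    have ht4 : g.1.trace ^ 2 ≠ 4 := by rw [htr]; exact zero_sq_ne_four h2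
    obtain ⟨hcyc, hcard⟩ := SL2Tori.isCyclic_centralizer (x := g) ht4
    haveI := hcyc
    haveI : IsCyclic R := isCyclic_of_surjective (MonoidHom.subgroupMap (PSL2.mk : SL2 →* PSL) C)
      (MonoidHom.subgroupMap_surjective _ C)
    by_cases hHR : H ≤ R
    · exact absurd (isCyclic_of_le hHR) hnc
    obtain ⟨y, hy, hyR⟩ := Set.not_subset.mp hHR
    obtain ⟨ky, rfl⟩ := QuotientGroup.mk'_surjective _ y
    have hky : ky * g = -g * ky := by
      rcases (hcomap ky).mp (hHx hy) with e | e
      · exact absurd ⟨ky, mem_centralizer_singleton_iff.mpr e, rfl⟩ hyR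
      · exact e
    have hy2 : PSL2.mk ky * PSL2.mk ky = 1 := ((invol_iff h2).mpr (trace_of_anti h2 hky)).2
    -- a nontrivial element of the cyclic part
    obtain ⟨z, hz, hzR, hz1⟩ : ∃ z ∈ H, z ∈ R ∧ z ≠ 1 := by
      by_contra hcon
      push Not at hcon
      refine hnc ?_
      have hall : H ≤ zpowers (PSL2.mk ky : PSL) := by
        intro w hw
        obtain ⟨kw, rfl⟩ := QuotientGroup.mk'_surjective _ w
        rcases (hcomap kw).mp (hHx hw) with e | e
        · rw [hcon _ hw ⟨kw, mem_centralizer_singleton_iff.mpr e, rfl⟩]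
          exact one_mem _
        · have hm : ky * kw ∈ C := mem_centralizer_singleton_iff.mpr (by
            rw [mul_assoc, e, neg_mul, mul_neg, ← mul_assoc, hky, neg_mul, neg_mul, neg_neg, mul_assoc])
          have h1 := hcon _ (mul_mem hy hw) ⟨_, hm, map_mul _ _ _⟩
          refine ⟨1, ?_⟩
          show (PSL2.mk ky : PSL) ^ (1 : ℤ) = _
          rw [zpow_one]
          exact (mul_left_cancel (a := PSL2.mk ky) (h1.trans hy2.symm)).symm
      exact isCyclic_of_le hall
    -- the cyclic part is a 2-group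
    obtain ⟨j, hj⟩ : ∃ j, Nat.card R ∣ 2 ^ j := by
      have hd : Nat.card R ∣ Nat.card C := Subgroup.card_dvd_of_surjective (MonoidHom.subgroupMap (PSL2.mk : SL2 →* PSL) C)
        (MonoidHom.subgroupMap_surjective _ C)
      suffices hk : ∃ j, Nat.card C = 2 ^ j by
        obtain ⟨j, hj⟩ := hk
        exact ⟨j, hj ▸ hd⟩
      rcases hq with hq | ⟨-, k, hk⟩
      · exact ⟨3, by rw [show (2:ℕ) ^ 3 = 9 - 1 by norm_num, ← hq]; exact card_centralizer_one h2 htr (by rw [hq])⟩
      · have hqmod : (Fintype.card F % 4 = 1 ∧ 2 ^ k = Fintype.card F - 1) ∨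
            (Fintype.card F % 4 = 3 ∧ 2 ^ k = Fintype.card F + 1) ∨ Fintype.card F = 3 := by
          rcases Nat.lt_or_ge k 2 with hk2 | hk2
          · have hq2 : 1 < Fintype.card F := Fintype.one_lt_card
            obtain ⟨i, hi⟩ := hodd
            interval_cases k <;> omega
          · have h4 : 4 ∣ 2 ^ k := Dvd.intro _ (show 2 ^ 2 * 2 ^ (k - 2) = 2 ^ k by rw [← pow_add]; congr 1; omega)
            rcases hk with hk | hk
            · left; omega
            · right; left; omega
        rcases hqmod with ⟨e, e'⟩ | ⟨e, e'⟩ | e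
        · exact ⟨k, by rw [e']; exact card_centralizer_one h2 htr e⟩
        · exact ⟨k, by rw [e']; exact card_centralizer_three h2 htr e⟩
        · exact ⟨2, by rw [card_centralizer_three h2 htr (by rw [e]), e]; norm_num⟩
    have hgR : PSL2.mk g ∈ R := ⟨g, mem_centralizer_singleton_iff.mpr rfl, rfl⟩
    have hg2 := ((invol_iff h2).mpr htr)
    -- the involution is a power
    obtain ⟨i, -, hi⟩ := (Nat.dvd_prime_pow Nat.prime_two).mp ((Subgroup.orderOf_dvd_natCard R hzR).trans hj)
    have hi0 : i ≠ 0 := fun e => hz1 (orderOf_eq_one_iff.mp (by rw [hi, e, pow_zero]))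
    set z' := z ^ 2 ^ (i - 1)
    have hz'H : z' ∈ H := pow_mem hz _
    have hz'o : orderOf z' = 2 := by
      show orderOf (z ^ 2 ^ (i - 1)) = 2
      rw [orderOf_pow' _ (by positivity), hi, show i = i - 1 + 1 by omega, pow_succ, add_tsub_cancel_right,
        Nat.gcd_eq_right (dvd_mul_right _ _), Nat.mul_div_cancel_left _ (by positivity)]
    have hz'R : z' ∈ R := pow_mem hzR _
    suffices hzg : z' = PSL2.mk g by rw [← hzg]; exact hz'H
    by_contra hne
    classical
    haveI := Fintype.ofFinite R
    have h1 := IsCyclic.card_pow_eq_one_le (α := R) (n := 2) (by norm_num)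
    have hsub : ({1, ⟨z', hz'R⟩, ⟨PSL2.mk g, hgR⟩} : Finset R) ⊆ Finset.univ.filter fun a : R => a ^ 2 = 1 := by
      intro a ha
      simp only [Finset.mem_insert, Finset.mem_singleton] at ha
      refine Finset.mem_filter.mpr ⟨Finset.mem_univ _, ?_⟩
      rcases ha with rfl | rfl | rfl
      · exact one_pow 2
      · exact Subtype.ext (orderOf_dvd_iff_pow_eq_one.mp hz'o.dvd)
      · exact Subtype.ext (by rw [SubmonoidClass.coe_pow, pow_two]; exact hg2.2)
    have h3 := Finset.card_le_card hsub
    have hz'1 : z' ≠ 1 := fun e => by rw [e, orderOf_one] at hz'o; omega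
    rw [Finset.card_insert_of_notMem (by simp [Subtype.ext_iff, Ne.symm hz'1]; exact fun e => hg2.1 e.symm),
      Finset.card_pair (fun e => hne (congrArg Subtype.val e))] at h3
    omega
  · -- other elements
    have hle : centralizer ({PSL2.mk g} : Set PSL) ≤ R := by
      intro y hy
      obtain ⟨ky, rfl⟩ := QuotientGroup.mk'_surjective _ y
      rcases (hcomap ky).mp hy with e | e
      · exact ⟨ky, mem_centralizer_singleton_iff.mpr e, rfl⟩
      · refine absurd ?_ htr
        have e' : ky⁻¹ * -g * ky = g := by rw [mul_assoc, ← e, inv_mul_cancel_left]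
        have e2 := congrArg (fun A : SL2 => A.1.trace) e'
        have e3 : (ky⁻¹ * -g * ky).1.trace = (-g).1.trace := by
          show ((ky⁻¹).1 * (-g).1 * ky.1).trace = _
          rw [Matrix.trace_mul_comm, ← Matrix.mul_assoc]
          show ((ky * ky⁻¹).1 * (-g).1).trace = _
          rw [mul_inv_cancel]
          exact congrArg Matrix.trace (one_mul _)
        rw [e3] at e2
        have e4 : (-g : SL2).1.trace = -g.1.trace := Matrix.trace_neg _
        rw [e4] at e2
        exact (mul_eq_zero.mp (show (2 : F) * g.1.trace = 0 by linear_combination -e2)).resolve_left h2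
    by_cases ht4 : g.1.trace ^ 2 = 4
    · have hcard := card_cent_unip h2 hns ht4
      have hRcard : Nat.card R = Fintype.card F := by
        have h1 := card_comap_mk hodd R
        have hneg : (-1 : SL2) ∈ C := mem_centralizer_singleton_iff.mpr (by simp)
        have hco : R.comap (PSL2.mk : SL2 →* PSL) = C := by
          refine le_antisymm ?_ (le_comap_map _ _)
          rintro k ⟨k', hk', e⟩
          rcases mk_eq_iff.mp e with e | e
          · rw [e]; exact hk'
          · rw [e, show -k' = -1 * k' by simp]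
            exact C.mul_mem hneg hk'
        rw [hco, hcard] at h1
        omega
      rcases hq with hq | ⟨hp, -⟩
      · exact sq_nine_noncyclic (hRcard.trans hq) (hHx.trans hle) hnc
          (hle (mem_centralizer_singleton_iff.mpr rfl))
      · haveI : Fact (Fintype.card F).Prime := ⟨hp⟩
        haveI : IsCyclic R := isCyclic_of_prime_card hRcard
        exact absurd (isCyclic_of_le (hHx.trans hle)) hnc
    · haveI := (SL2Tori.isCyclic_centralizer (x := g) ht4).1
      haveI : IsCyclic R := isCyclic_of_surjective (MonoidHom.subgroupMap (PSL2.mk : SL2 →* PSL) C)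
        (MonoidHom.subgroupMap_surjective _ C)
      exact absurd (isCyclic_of_le (hHx.trans hle)) hnc

theorem scnc_four (hF : Fintype.card F = 4) (H : Subgroup PSL) (hnc : ¬ IsCyclic H) :
    centralizer (H : Set PSL) ≤ H := by
  intro x hx
  rcases eq_or_ne x 1 with rfl | hx1
  · exact one_mem _
  have hHx : H ≤ centralizer ({x} : Set PSL) := fun y hy =>
    mem_centralizer_singleton_iff.mpr (mem_centralizer_iff.mp hx y hy)
  have hcard : Nat.card PSL = 60 := by
    have h1 := SLCard.gcd_mul_card_PSL (F := F) (n := 2) (by norm_num)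
    rw [SLCard.card_SL_two, hF] at h1
    norm_num at h1
    exact h1
  have hmem : (centralizer ({x} : Set PSL)).index ∈ ({1, 12, 15, 20} : Set ℕ) := by
    have := Cfsg.Agent.S2507.result (F := F) (by rw [hF]; norm_num) (by rw [hF])
    rw [hF] at this
    norm_num at this
    rw [← this]
    exact ⟨x, rfl⟩
  simp only [Set.mem_insert_iff, Set.mem_singleton_iff] at hmem
  have hmul := (centralizer ({x} : Set PSL)).card_mul_index
  rw [hcard] at hmul
  rcases hmem with e | e | e | e
  · exfalso
    haveI : IsSimpleGroup PSL := Matrix.ProjectiveSpecialLinearGroup.rank_two_simple (by rw [Nat.card_eq_fintype_card, hF])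
    have htop := index_eq_one.mp e
    have hc : x ∈ center PSL := mem_center_iff.mpr fun y => mem_centralizer_singleton_iff.mp (htop ▸ mem_top y)
    rcases (inferInstance : (center PSL).Normal).eq_bot_or_eq_top with h | h
    · exact hx1 (mem_bot.mp (h ▸ hc))
    · have hall := Cfsg.Agent.S2507.result (F := F) (by rw [hF]; norm_num) (by rw [hF])
      rw [hF] at hall
      obtain ⟨y, hy⟩ : (4 * (4 - 1) : ℕ) ∈ Set.range fun g : PSL => (centralizer ({g} : Set PSL)).index := by
        rw [hall]; simp
      simp only at hy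
      rw [index_eq_one.mpr ((eq_top_iff' _).mpr fun w => mem_centralizer_singleton_iff.mpr
        (mem_center_iff.mp (h ▸ mem_top y) w))] at hy
      omega
  · haveI : Fact (Nat.Prime 5) := ⟨by norm_num⟩
    rw [e] at hmul
    haveI : IsCyclic (centralizer ({x} : Set PSL)) := isCyclic_of_prime_card (p := 5) (by omega)
    exact absurd (isCyclic_of_le hHx) hnc
  · rw [e] at hmul
    have h4 : Nat.card (centralizer ({x} : Set PSL)) = 2 ^ 2 := by norm_num; omega
    have hd := card_dvd_of_le hHx
    rw [h4] at hd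
    obtain ⟨i, hi, hc⟩ := (Nat.dvd_prime_pow Nat.prime_two).mp hd
    haveI : Fact (Nat.Prime 2) := ⟨Nat.prime_two⟩
    interval_cases i
    · haveI : Subsingleton H := (Nat.card_eq_one_iff_unique.mp (by simpa using hc)).1
      exact absurd (inferInstance : IsCyclic H) hnc
    · exact absurd (isCyclic_of_prime_card (p := 2) (by simpa using hc)) hnc
    · exact (eq_of_le_of_card_ge hHx (by rw [h4, hc])).ge (mem_centralizer_singleton_iff.mpr rfl)
  · haveI : Fact (Nat.Prime 3) := ⟨Nat.prime_three⟩
    rw [e] at hmul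
    haveI : IsCyclic (centralizer ({x} : Set PSL)) := isCyclic_of_prime_card (p := 3) (by omega)
    exact absurd (isCyclic_of_le hHx) hnc

end CfsgLib.SCNonCyclic
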