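import Cfsg.Agent.Lib.ConjRankThree.EvenC
import Cfsg.Agent.Lib.Basic
import Cfsg.Agent.S0199
import Cfsg.Agent.Lib.DihedralTransfer
import Cfsg.Agent.S0113
import Cfsg.Agent.S0112

set_option autoImplicit false

/-!
Self-centralizing non-cyclic subgroups: the centralizer of a central involution of a Sylow 2-subgroup.
-/

namespace CfsgLib.SCNonCyclic

open Subgroup

universe u

variable {G : Type u} [Group G]

/-- Non-cyclic subgroups contain their centralizers. -/
def SCNC (G : Type u) [Group G] : Prop :=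
  ∀ H : Subgroup G, ¬ IsCyclic H → centralizer (H : Set G) ≤ H

variable [Finite G]

/-- Only the four-group commutes with two commuting involutions. -/
theorem four_cent (h : SCNC G) {s t x : G} (hs : orderOf s = 2) (ht : orderOf t = 2) (hne : s ≠ t)
    (hst : Commute s t) (hxs : Commute x s) (hxt : Commute x t) : x = 1 ∨ x = s ∨ x = t ∨ x = s * t := by
  have hs2 := Involutions.mul_self_eq_one_of_orderOf hs
  have ht2 := Involutions.mul_self_eq_one_of_orderOf ht
  set H := closure ({s, t} : Set G)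
  have hmem : ∀ y ∈ H, y = 1 ∨ y = s ∨ y = t ∨ y = s * t := by
    intro y hy
    obtain ⟨k, hk⟩ := Involutions.mem_closure_pair hs2 ht2 hy
    have h2 : (s * t) * (s * t) = 1 := by
      calc s * t * (s * t) = s * (t * s) * t := by group
        _ = (s * s) * (t * t) := by rw [← hst.eq]; group
        _ = 1 := by rw [hs2, ht2, mul_one]
    obtain ⟨j, rfl | rfl⟩ := Int.even_or_odd' k
    · rcases hk with e | e <;> rw [zpow_mul, zpow_two, h2, one_zpow] at e
      · exact Or.inl e
      · exact Or.inr (Or.inl (by rw [e, mul_one]))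
    · rcases hk with e | e <;> rw [zpow_add_one, zpow_mul, zpow_two, h2, one_zpow, one_mul] at e
      · exact Or.inr (Or.inr (Or.inr e))
      · exact Or.inr (Or.inr (Or.inl (by rw [e, ← mul_assoc, hs2, one_mul])))
  have hnc : ¬ IsCyclic H := by
    intro hc
    have hsH : s ∈ H := subset_closure (Or.inl rfl)
    have htH : t ∈ H := subset_closure (Or.inr rfl)
    obtain ⟨⟨g, hg⟩, hgen⟩ := IsCyclic.exists_generator (α := H)
    obtain ⟨i, hi⟩ := hgen ⟨s, hsH⟩
    obtain ⟨j, hj⟩ := hgen ⟨t, htH⟩
    have hi' : g ^ i = s := by simpa using congrArg Subtype.val hi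
    have hj' : g ^ j = t := by simpa using congrArg Subtype.val hj
    rcases hmem g hg with rfl | rfl | rfl | rfl
    · rw [one_zpow] at hi'; rw [← hi', orderOf_one] at hs; omega
    · obtain ⟨l, rfl | rfl⟩ := Int.even_or_odd' j
      · rw [zpow_mul, zpow_two, hs2, one_zpow] at hj'; rw [← hj', orderOf_one] at ht; omega
      · rw [zpow_add_one, zpow_mul, zpow_two, hs2, one_zpow, one_mul] at hj'; exact hne hj'
    · obtain ⟨l, rfl | rfl⟩ := Int.even_or_odd' i
      · rw [zpow_mul, zpow_two, ht2, one_zpow] at hi'; rw [← hi', orderOf_one] at hs; omega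
      · rw [zpow_add_one, zpow_mul, zpow_two, ht2, one_zpow, one_mul] at hi'; exact hne hi'.symm
    · have h2 : (s * t) * (s * t) = 1 := by
        calc s * t * (s * t) = s * (t * s) * t := by group
          _ = (s * s) * (t * t) := by rw [← hst.eq]; group
          _ = 1 := by rw [hs2, ht2, mul_one]
      obtain ⟨l, rfl | rfl⟩ := Int.even_or_odd' i
      · rw [zpow_mul, zpow_two, h2, one_zpow] at hi'; rw [← hi', orderOf_one] at hs; omega
      · rw [zpow_add_one, zpow_mul, zpow_two, h2, one_zpow, one_mul] at hi'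
        rw [mul_eq_left.mp hi', orderOf_one] at ht; omega
  refine hmem x (h H hnc ?_)
  refine mem_centralizer_iff.mpr fun y hy => ?_
  rcases hmem y hy with rfl | rfl | rfl | rfl
  · simp
  · exact hxs.eq.symm
  · exact hxt.eq.symm
  · exact (hxs.mul_right hxt).eq.symm

/-- A group centralized by an involution outside it is cyclic. -/
theorem no_inverted (h : SCNC G) {s t v : G} (hs : orderOf s = 2) (ht : orderOf t = 2) (hv : Odd (orderOf v))
    (hv1 : v ≠ 1) (hsv : s * v * s⁻¹ = v⁻¹) (hts : Commute t s) (htv : Commute t v) : False := by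
  have hs2 := Involutions.mul_self_eq_one_of_orderOf hs
  have hsi := Involutions.inv_eq_self_of_orderOf hs
  have hnc : ¬ Commute s v := fun e => by
    rw [show s * v * s⁻¹ = v from mul_inv_eq_iff_eq_mul.mpr e.eq] at hsv
    have h2 : v * v = 1 := mul_eq_one_iff_eq_inv.mpr hsv
    have hd : orderOf v ∣ 2 := orderOf_dvd_of_pow_eq_one (by rw [pow_two]; exact h2)
    rcases (Nat.dvd_prime Nat.prime_two).mp hd with e' | e'
    · exact hv1 (orderOf_eq_one_iff.mp e')
    · rw [e'] at hv; exact absurd hv (by decide)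
  have hy2 : s * v * (s * v) = 1 := by
    calc s * v * (s * v) = s * v * s * v := by group
      _ = 1 := by
        nth_rewrite 2 [← hsi]
        rw [hsv, inv_mul_cancel]
  set H := closure ({s, s * v} : Set G)
  have hsH : s ∈ H := subset_closure (Or.inl rfl)
  have hvH : v ∈ H := by
    have := mul_mem hsH (subset_closure (Or.inr rfl) : s * v ∈ H)
    rwa [← mul_assoc, hs2, one_mul] at this
  have htH : t ∈ H := h H (fun hc => hnc (by
      letI := IsCyclic.commGroup (α := H)
      exact congrArg Subtype.val (mul_comm (⟨s, hsH⟩ : H) ⟨v, hvH⟩)))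
    (mem_centralizer_iff.mpr fun y hy => by
      obtain ⟨k, hk⟩ := Involutions.mem_closure_pair hs2 hy2 hy
      rw [← mul_assoc, hs2, one_mul] at hk
      rcases hk with rfl | rfl
      · exact (htv.zpow_right k).eq.symm
      · exact (hts.mul_right (htv.zpow_right k)).eq.symm)
  obtain ⟨k, hk⟩ := Involutions.mem_closure_pair hs2 hy2 htH
  rw [← mul_assoc, hs2, one_mul] at hk
  rcases hk with e | e
  · have hd : orderOf t ∣ orderOf v := orderOf_dvd_of_mem_zpowers ⟨k, e.symm⟩
    rw [ht] at hd
    exact absurd (even_iff_two_dvd.mpr hd) (Nat.not_even_iff_odd.mpr hv)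
  · refine hnc ?_
    have : s = t * (v ^ k)⁻¹ := by rw [e, mul_inv_cancel_right]
    rw [this]
    exact htv.mul_left ((Commute.refl v).zpow_left k).inv_left

variable [IsSimpleGroup G] (hna : ¬ IsMulCommutative G)
include hna

theorem two_dvd (h2 : ¬ 2 ∣ Nat.card G → Group.IsSolvable G) : 2 ∣ Nat.card G := by
  by_contra he
  exact hna ⟨⟨IsSimpleGroup.comm_iff_isSolvable.mpr (h2 he)⟩⟩

/-- A Sylow 2-subgroup with a four-group. -/
theorem exists_four (h2 : 2 ∣ Nat.card G) :
    ∃ (S : Sylow 2 G) (s s' : G), orderOf s = 2 ∧ orderOf s' = 2 ∧ s ≠ s' ∧ Commute s s' ∧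
      s ∈ (S : Subgroup G) ∧ s' ∈ (S : Subgroup G) := by
  haveI : Fact (Nat.Prime 2) := ⟨Nat.prime_two⟩
  obtain ⟨z, hz⟩ := exists_prime_orderOf_dvd_card' (G := G) 2 h2
  haveI := ConjRankThree.mono_of_simple hna
  obtain ⟨g, hne, hc⟩ := ConjRankThree.exists_commuting_conj hz
  have hz' := (Involutions.orderOf_conj g z).trans hz
  set z' := g * z * g⁻¹
  have hp : IsPGroup 2 (closure ({z, z'} : Set G)) := by
    rintro ⟨y, hy⟩
    refine ⟨1, Subtype.ext ?_⟩
    obtain ⟨k, hk⟩ := Involutions.mem_closure_pair (Involutions.mul_self_eq_one_of_orderOf hz)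
      (Involutions.mul_self_eq_one_of_orderOf hz') hy
    rw [SubmonoidClass.coe_pow, OneMemClass.coe_one, pow_one, pow_two]
    have h4 : (z * z') * (z * z') = 1 := by
      calc z * z' * (z * z') = z * (z' * z) * z' := by group
        _ = (z * z) * (z' * z') := by rw [← hc.eq]; group
        _ = 1 := by rw [Involutions.mul_self_eq_one_of_orderOf hz, Involutions.mul_self_eq_one_of_orderOf hz', mul_one]
    have h5 : (z * z') ^ k * (z * z') ^ k = 1 := by rw [← ((Commute.refl (z * z')).mul_zpow k), h4, one_zpow]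
    rcases hk with e | e <;> show y * y = 1 <;> rw [e]
    · exact h5
    · have hzz : Commute z ((z * z') ^ k) := (((Commute.refl z).mul_right hc).zpow_right k)
      calc z * (z * z') ^ k * (z * (z * z') ^ k) = z * ((z * z') ^ k * z) * (z * z') ^ k := by group
        _ = (z * z) * ((z * z') ^ k * (z * z') ^ k) := by rw [← hzz.eq]; group
        _ = 1 := by rw [h5, Involutions.mul_self_eq_one_of_orderOf hz, mul_one]
  obtain ⟨S, hS⟩ := hp.exists_le_sylow
  exact ⟨S, z, z', hz, hz', fun e => hne e.symm, hc, hS (subset_closure (Or.inl rfl)), hS (subset_closure (Or.inr rfl))⟩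

omit hna [IsSimpleGroup G]

/-- A cyclic subgroup of index two containing the central involution. -/
theorem exists_R (h : SCNC G) (S : Sylow 2 G) {s t : G} (hs : orderOf s = 2) (ht : orderOf t = 2) (hne : s ≠ t)
    (hsS : s ∈ (S : Subgroup G)) (htS : t ∈ (S : Subgroup G)) (htZ : ∀ y ∈ (S : Subgroup G), Commute y t) :
    ∃ r : G, r ∈ (S : Subgroup G) ∧ t ∈ zpowers r ∧ s ∉ zpowers r ∧
      ∀ y ∈ (S : Subgroup G), y ∈ zpowers r ∨ y * s ∈ zpowers r := by
  haveI : Fact (Nat.Prime 2) := ⟨Nat.prime_two⟩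
  have hst : Commute s t := htZ s hsS
  have ht2 := Involutions.mul_self_eq_one_of_orderOf ht
  by_cases hsZ : ∀ y ∈ (S : Subgroup G), Commute y s
  · refine ⟨t, htS, mem_zpowers t, ?_, fun y hy => ?_⟩
    · rintro ⟨k, hk⟩
      obtain ⟨l, rfl | rfl⟩ := Int.even_or_odd' k
      · have : (t ^ (2 * l) : G) = 1 := by rw [zpow_mul, zpow_two, ht2, one_zpow]
        rw [← show t ^ (2 * l) = s from hk, this, orderOf_one] at hs; omega
      · exact hne (by rw [← show t ^ (2 * l + 1) = s from hk, zpow_add_one, zpow_mul, zpow_two, ht2, one_zpow, one_mul])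
    · have hs2 := Involutions.mul_self_eq_one_of_orderOf hs
      rcases four_cent h hs ht hne hst (hsZ y hy) (htZ y hy) with rfl | rfl | rfl | rfl
      · exact Or.inl (one_mem _)
      · exact Or.inr (by rw [hs2]; exact one_mem _)
      · exact Or.inl (mem_zpowers _)
      · refine Or.inr ?_
        rw [hst.eq, mul_assoc, hs2, mul_one]
        exact mem_zpowers t
  · push Not at hsZ
    obtain ⟨y₀, hy₀, hy₀s⟩ := hsZ
    obtain ⟨n, hn⟩ := S.2.exists_card_eq
    let A : Subgroup (S : Subgroup G) := (closure ({s, t} : Set G)).subgroupOf S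
    have hs2 := Involutions.mul_self_eq_one_of_orderOf hs
    have hle : closure ({s, t} : Set G) ≤ S := (closure_le _).mpr (Set.insert_subset hsS (Set.singleton_subset_iff.mpr htS))
    have hmem : ∀ y, y ∈ closure ({s, t} : Set G) → Commute y s ∧ Commute y t := by
      intro y hy
      obtain ⟨k, hk⟩ := Involutions.mem_closure_pair hs2 ht2 hy
      have c1 : Commute (s * t) s := (Commute.refl s).mul_left hst.symm
      have c2 : Commute (s * t) t := hst.mul_left (Commute.refl t)
      rcases hk with rfl | rfl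
      · exact ⟨c1.zpow_left k, c2.zpow_left k⟩
      · exact ⟨(Commute.refl s).mul_left (c1.zpow_left k), hst.mul_left (c2.zpow_left k)⟩
    have hAcard : Nat.card A = 2 ^ 2 := by
      rw [Nat.card_congr (subgroupOfEquivOfLe hle).toEquiv]
      have h4 : ((closure ({s, t} : Set G) : Subgroup G) : Set G) = {1, s, t, s * t} := by
        ext y
        simp only [SetLike.mem_coe, Set.mem_insert_iff, Set.mem_singleton_iff]
        refine ⟨fun hy => four_cent h hs ht hne hst (hmem y hy).1 (hmem y hy).2, ?_⟩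
        rintro (rfl | rfl | rfl | rfl)
        exacts [one_mem _, subset_closure (Or.inl rfl), subset_closure (Or.inr rfl),
          mul_mem (subset_closure (Or.inl rfl)) (subset_closure (Or.inr rfl))]
      rw [← SetLike.coe_sort_coe, h4, Nat.card_coe_set_eq]
      have hs1 : s ≠ 1 := fun e => by rw [e, orderOf_one] at hs; omega
      have ht1 : t ≠ 1 := fun e => by rw [e, orderOf_one] at ht; omega
      have hst1 : s * t ≠ 1 := fun e => hne (by
        rw [eq_inv_of_mul_eq_one_left e, Involutions.inv_eq_self_of_orderOf ht])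
      rw [Set.ncard_insert_of_notMem (by simp [hs1.symm, ht1.symm, Ne.symm hst1]),
        Set.ncard_insert_of_notMem (by simp [hne, ht1]),
        Set.ncard_insert_of_notMem (by simp [hs1]), Set.ncard_singleton]
      norm_num
    have hAC : centralizer (A : Set (S : Subgroup G)) = A := by
      refine le_antisymm (fun y hy => ?_) (fun y hy => mem_centralizer_iff.mpr fun w hw => Subtype.ext ?_)
      · rw [mem_subgroupOf]
        have e1 : Commute (y : G) s := (congrArg Subtype.val (mem_centralizer_iff.mp hy ⟨s, hsS⟩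
          (mem_subgroupOf.mpr (subset_closure (Or.inl rfl))))).symm
        rcases four_cent h hs ht hne hst e1 (htZ y y.2) with e | e | e | e <;> rw [e]
        exacts [one_mem _, subset_closure (Or.inl rfl), subset_closure (Or.inr rfl),
          mul_mem (subset_closure (Or.inl rfl)) (subset_closure (Or.inr rfl))]
      · obtain ⟨c1, c2⟩ := hmem w (mem_subgroupOf.mp hw)
        obtain ⟨k, hk⟩ := Involutions.mem_closure_pair hs2 ht2 (mem_subgroupOf.mp hy)
        show (w : G) * y = y * w
        rcases hk with e | e <;> rw [e]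
        · exact ((c1.mul_right c2).zpow_right k).eq
        · exact (c1.mul_right ((c1.mul_right c2).zpow_right k)).eq
    have hn3 : 3 ≤ n := by
      by_contra hlt
      refine hy₀s ?_
      have hd : Nat.card A ∣ Nat.card (S : Subgroup G) := card_subgroup_dvd_card A
      rw [hAcard, hn] at hd
      have hn2 : n = 2 := by have := (Nat.pow_dvd_pow_iff_le_right (by norm_num : 1 < 2)).mp hd; omega
      have htop : A = ⊤ := eq_top_of_card_eq _ (by rw [hAcard, hn, hn2])
      exact (hmem y₀ (mem_subgroupOf.mp (htop ▸ mem_top (⟨y₀, hy₀⟩ : (S : Subgroup G))))).1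
    obtain ⟨R, hRc, hR2⟩ := Cfsg.Agent.S0113.result n hn3 hn (Cfsg.Agent.S0112.result n hn A hAcard hAC)
    obtain ⟨⟨r, hrS⟩, hr⟩ := (isCyclic_iff_exists_zpowers_eq_top.mp hRc : ∃ g : R, zpowers g = ⊤) |>
      fun ⟨g, hg⟩ => (⟨(g : (S : Subgroup G)), fun y => by
        constructor
        · intro hy
          obtain ⟨k, hk⟩ := (hg ▸ mem_top (⟨y, hy⟩ : R) : (⟨y, hy⟩ : R) ∈ zpowers g)
          exact ⟨k, congrArg Subtype.val hk⟩
        · rintro ⟨k, rfl⟩
          exact zpow_mem g.2 k⟩ : ∃ g : (S : Subgroup G), ∀ y, y ∈ R ↔ y ∈ zpowers g)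
    have hiff : ∀ y : (S : Subgroup G), (y : G) ∈ zpowers r ↔ y ∈ R := fun y => by
      rw [hr]
      constructor
      · rintro ⟨k, hk⟩; exact ⟨k, Subtype.ext hk⟩
      · rintro ⟨k, hk⟩; exact ⟨k, congrArg Subtype.val hk⟩
    haveI : R.Normal := normal_of_index_eq_two hR2
    -- the involution of the cyclic subgroup
    have hRcard : 2 ∣ Nat.card R := by
      have := R.card_mul_index
      rw [hR2, hn] at this
      have h8 : 2 ^ n = 2 ^ (n - 1) * 2 := by rw [← pow_succ]; congr 1; omega
      rw [Nat.eq_of_mul_eq_mul_right (by norm_num) (this.trans h8)]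
      exact dvd_pow_self 2 (by omega)
    obtain ⟨i, hi⟩ := exists_prime_orderOf_dvd_card' (G := R) 2 hRcard
    haveI := hRc
    have huniq : ∀ j : R, orderOf j = 2 → j = i := by
      intro j hj
      letI := Fintype.ofFinite R
      classical
      by_contra hji
      have h1 := IsCyclic.card_pow_eq_one_le (α := R) (n := 2) (by norm_num)
      have hi1 : i ≠ 1 := fun e => by rw [e, orderOf_one] at hi; omega
      have hj1 : j ≠ 1 := fun e => by rw [e, orderOf_one] at hj; omega
      have h2 : ({1, i, j} : Finset R) ⊆ Finset.univ.filter fun a : R => a ^ 2 = 1 := by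
        intro a ha
        simp only [Finset.mem_insert, Finset.mem_singleton] at ha
        refine Finset.mem_filter.mpr ⟨Finset.mem_univ _, ?_⟩
        rcases ha with rfl | rfl | rfl
        · exact one_pow 2
        · exact orderOf_dvd_iff_pow_eq_one.mp hi.dvd
        · exact orderOf_dvd_iff_pow_eq_one.mp hj.dvd
      have h3 := Finset.card_le_card h2
      rw [Finset.card_insert_of_notMem (by simp [hi1.symm, hj1.symm]), Finset.card_pair (Ne.symm hji)] at h3
      omega
    set iG : G := ((i : (S : Subgroup G)) : G)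
    have hiG : orderOf iG = 2 := by show orderOf (((i : (S : Subgroup G)) : G)) = 2; rw [Subgroup.orderOf_coe, Subgroup.orderOf_coe, hi]
    have hicent : ∀ y ∈ (S : Subgroup G), Commute y iG := fun y hy => by
      have e := huniq ⟨(⟨y, hy⟩ : (S : Subgroup G)) * i * (⟨y, hy⟩ : (S : Subgroup G))⁻¹,
        Subgroup.Normal.conj_mem inferInstance _ i.2 _⟩ (by
        rw [← Subgroup.orderOf_coe, Involutions.orderOf_conj, Subgroup.orderOf_coe, hi])
      have e' : y * iG * y⁻¹ = iG := congrArg (fun a : R => ((a : (S : Subgroup G)) : G)) e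
      exact mul_inv_eq_iff_eq_mul.mp e'
    have hit : iG = t := by
      rcases four_cent h hs ht hne hst (hicent s hsS).symm (hicent t htS).symm with e | e | e | e
      · rw [e, orderOf_one] at hiG; omega
      · exact absurd (by rw [← e]; exact hicent y₀ hy₀) hy₀s
      · exact e
      · refine absurd (hicent y₀ hy₀) (fun hc => hy₀s ?_)
        rw [e] at hc
        have := hc.mul_right (htZ y₀ hy₀)
        rwa [mul_assoc, ht2, mul_one] at this
    refine ⟨r, hrS, ?_, ?_, fun y hy => ?_⟩
    · rw [← hit]; exact (hiff i).mpr i.2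
    · intro hsr
      have := huniq ⟨⟨s, hsS⟩, (hiff ⟨s, hsS⟩).mp hsr⟩ (by rw [← Subgroup.orderOf_coe, ← Subgroup.orderOf_coe]; exact hs)
      exact hne ((congrArg (fun a : R => ((a : (S : Subgroup G)) : G)) this).trans hit)
    · by_cases hyR : (⟨y, hy⟩ : (S : Subgroup G)) ∈ R
      · exact Or.inl ((hiff _).mpr hyR)
      · refine Or.inr ((hiff (⟨y, hy⟩ * ⟨s, hsS⟩)).mpr ?_)
        have hsR : (⟨s, hsS⟩ : (S : Subgroup G)) ∉ R := fun hsr => by
          have := huniq ⟨⟨s, hsS⟩, hsr⟩ (by rw [← Subgroup.orderOf_coe, ← Subgroup.orderOf_coe]; exact hs)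
          exact hne ((congrArg (fun a : R => ((a : (S : Subgroup G)) : G)) this).trans hit)
        exact (mul_mem_iff_of_index_two hR2).mpr (by tauto)

/-- The centralizer of a central involution is the Sylow subgroup. -/
theorem cent_eq (h : SCNC G) (S : Sylow 2 G) {s t : G} (hs : orderOf s = 2) (ht : orderOf t = 2) (hne : s ≠ t)
    (hsS : s ∈ (S : Subgroup G)) (htS : t ∈ (S : Subgroup G)) (htZ : ∀ y ∈ (S : Subgroup G), Commute y t) :
    centralizer ({t} : Set G) = (S : Subgroup G) := by
  haveI : Fact (Nat.Prime 2) := ⟨Nat.prime_two⟩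
  set C := centralizer ({t} : Set G)
  have hSC : (S : Subgroup G) ≤ C := fun y hy => mem_centralizer_singleton_iff.mpr (htZ y hy)
  suffices hp : IsPGroup 2 C from S.3 hp hSC
  have hs2 := Involutions.mul_self_eq_one_of_orderOf hs
  have hsC : s ∈ C := hSC hsS
  have hCmem : ∀ {y : G}, y ∈ C → Commute t y := fun hy => (mem_centralizer_singleton_iff.mp hy).symm
  have hpow : ∀ g : C, ∃ k, orderOf (s * ((g : G) * s * (g : G)⁻¹)) = 2 ^ k := by
    intro g
    set q := s * ((g : G) * s * (g : G)⁻¹)
    refine ⟨_, Nat.eq_prime_pow_of_unique_prime_dvd (orderOf_pos q).ne' fun {p} hp hd => ?_⟩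
    by_contra hp2
    haveI := Fact.mk hp
    have ho : orderOf (q ^ (orderOf q / p)) = p := orderOf_pow_orderOf_div (orderOf_pos q).ne' hd
    have hq : q ∈ C := mul_mem hsC (mul_mem (mul_mem g.2 hsC) (inv_mem g.2))
    refine no_inverted h hs ht (v := q ^ (orderOf q / p)) (by rw [ho]; exact hp.odd_of_ne_two hp2)
      (fun e => hp.one_lt.ne (by rw [← ho, e, orderOf_one])) ?_ (hCmem hsC) (hCmem (pow_mem hq _))
    rw [← conj_pow, Involutions.conj_mul_eq_inv hs2
      (Involutions.mul_self_eq_one_of_orderOf ((Involutions.orderOf_conj (g : G) s).trans hs)), inv_pow]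
  obtain ⟨N, hN, hNp, hle⟩ := Cfsg.Agent.S0199.result (p := 2) (zpowers (⟨s, hsC⟩ : C))
    (IsPGroup.of_card (n := 1) (by rw [Nat.card_zpowers, Subgroup.orderOf_mk, hs, pow_one])) (fun g => by
      have hx2 : (⟨s, hsC⟩ : C) * ⟨s, hsC⟩ = 1 := Subtype.ext hs2
      have hy2 : g * ⟨s, hsC⟩ * g⁻¹ * (g * ⟨s, hsC⟩ * g⁻¹) = 1 := by
        calc g * ⟨s, hsC⟩ * g⁻¹ * (g * ⟨s, hsC⟩ * g⁻¹) = g * (⟨s, hsC⟩ * ⟨s, hsC⟩) * g⁻¹ := by group
          _ = 1 := by rw [hx2]; group
      have hsub : zpowers (⟨s, hsC⟩ : C) ⊔ (zpowers (⟨s, hsC⟩ : C)).map (MulAut.conj g).toMonoidHom ≤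
          closure {(⟨s, hsC⟩ : C), g * ⟨s, hsC⟩ * g⁻¹} := by
        refine sup_le (zpowers_le.mpr (subset_closure (Or.inl rfl))) ?_
        rw [MonoidHom.map_zpowers, zpowers_le]
        exact subset_closure (Or.inr rfl)
      refine IsPGroup.to_le ?_ hsub
      intro d
      obtain ⟨k, hk⟩ := hpow g
      rw [show s * ((g : G) * s * (g : G)⁻¹) = (((⟨s, hsC⟩ : C) * (g * ⟨s, hsC⟩ * g⁻¹) : C) : G) from rfl,
        Subgroup.orderOf_coe] at hk
      obtain ⟨i, hi | hi⟩ := Involutions.mem_closure_pair hx2 hy2 d.2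
      · refine ⟨k, Subtype.ext ?_⟩
        rw [SubmonoidClass.coe_pow, OneMemClass.coe_one, hi, ← hk, ← zpow_natCast, ← zpow_mul, mul_comm i,
          zpow_mul, zpow_natCast, pow_orderOf_eq_one, one_zpow]
      · refine ⟨1, Subtype.ext ?_⟩
        rw [SubmonoidClass.coe_pow, OneMemClass.coe_one, hi, pow_one, pow_two]
        set e := ((⟨s, hsC⟩ : C) * (g * ⟨s, hsC⟩ * g⁻¹)) ^ i
        have hze : (⟨s, hsC⟩ : C) * e * (⟨s, hsC⟩ : C)⁻¹ = e⁻¹ := by
          rw [Involutions.conj_zpow_eq_inv hx2 hy2, zpow_neg]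
        calc (⟨s, hsC⟩ : C) * e * (⟨s, hsC⟩ * e) = (⟨s, hsC⟩ * e * (⟨s, hsC⟩ : C)⁻¹) * (⟨s, hsC⟩ * ⟨s, hsC⟩) * e := by group
          _ = 1 := by rw [hze, hx2]; group)
  haveI := hN
  let S' : Sylow 2 C := S.subtype hSC
  have hQS : (Cfsg.pCore 2 C).map C.subtype ≤ (S : Subgroup G) := by
    rintro _ ⟨y, hy, rfl⟩
    exact mem_subgroupOf.mp (pCore_le_sylow S' hy)
  set Q := (Cfsg.pCore 2 C).map C.subtype
  have hsQ : s ∈ Q := ⟨⟨s, hsC⟩, le_pCore hNp (hle (mem_zpowers _)), rfl⟩
  have htC : t ∈ C := hSC htS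
  have htQ : t ∈ Q := by
    haveI : (zpowers (⟨t, htC⟩ : C)).Normal := ⟨fun n hn g => by
      obtain ⟨k, rfl⟩ := hn
      refine ⟨k, ?_⟩
      show (⟨t, htC⟩ : C) ^ k = g * (⟨t, htC⟩ : C) ^ k * g⁻¹
      have hgt : Commute g (⟨t, htC⟩ : C) := Subtype.ext (hCmem g.2).symm.eq
      rw [(hgt.zpow_right k).eq, mul_inv_cancel_right]⟩
    exact ⟨⟨t, htC⟩, le_pCore (N := zpowers (⟨t, htC⟩ : C))
      (IsPGroup.of_card (n := 1) (by rw [Nat.card_zpowers, Subgroup.orderOf_mk, ht, pow_one])) (mem_zpowers _), rfl⟩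
  obtain ⟨r₀, hr₀S, htr, hsr, hsplit⟩ := exists_R h S hs ht hne hsS htS htZ
  -- the generator of the cyclic part
  set R := zpowers r₀ ⊓ Q
  haveI : IsCyclic R := isCyclic_of_le inf_le_left
  obtain ⟨⟨r, hrR⟩, hr⟩ := IsCyclic.exists_generator (α := R)
  have hgen : ∀ y ∈ R, y ∈ zpowers r := fun y hy => by
    obtain ⟨k, hk⟩ := hr ⟨y, hy⟩
    exact ⟨k, by simpa using congrArg Subtype.val hk⟩
  have hQR : ∀ y ∈ Q, y ∈ zpowers r ∨ y * s ∈ zpowers r := fun y hy => by
    rcases hsplit y (hQS hy) with e | e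
    · exact Or.inl (hgen y ⟨e, hy⟩)
    · exact Or.inr (hgen _ ⟨e, mul_mem hy hsQ⟩)
  have hsr' : s ∉ zpowers r := fun e => hsr (zpowers_le.mpr hrR.1 e)
  have hrS : r ∈ (S : Subgroup G) := hQS hrR.2
  obtain ⟨j, hj⟩ : ∃ j, orderOf r = 2 ^ j := by
    obtain ⟨i, hi⟩ := S.2 ⟨r, hrS⟩
    obtain ⟨j, -, hj⟩ := (Nat.dvd_prime_pow Nat.prime_two).mp
      (show orderOf r ∣ 2 ^ i from orderOf_dvd_of_pow_eq_one (congrArg Subtype.val hi))
    exact ⟨j, hj⟩
  have hcommR : ∀ a ∈ zpowers r, ∀ b ∈ zpowers r, a * b = b * a := by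
    rintro _ ⟨k, rfl⟩ _ ⟨l, rfl⟩
    exact ((Commute.refl r).zpow_zpow k l).eq
  have hnormal : ∀ y ∈ zpowers r, s * y * s ∈ zpowers r := by
    intro y hy
    have hyQ : y ∈ Q := (zpowers_le.mpr hrR.2) hy
    rcases hQR (s * y * s) (mul_mem (mul_mem hsQ hyQ) hsQ) with e | e
    · exact e
    · rw [mul_assoc (s * y), hs2, mul_one] at e
      exact absurd (by simpa using mul_mem e (inv_mem hy)) hsr'
  have hsq : ∀ y ∈ zpowers r, (y * s) * (y * s) = 1 ∨ (y * s) * (y * s) = t := by
    intro y hy
    set d := y * (s * y * s) with hd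
    have hdR : d ∈ zpowers r := mul_mem hy (hnormal y hy)
    have hdc : Commute d s := by
      show d * s = s * d
      calc d * s = y * (s * y) * (s * s) := by rw [hd]; group
        _ = (s * s) * (y * (s * y)) := by rw [hs2, one_mul, mul_one]
        _ = s * ((s * y * s) * y) := by group
        _ = s * d := by rw [← hcommR y hy _ (hnormal y hy)]
    have e : (y * s) * (y * s) = d := by rw [hd]; group
    rw [e]
    rcases four_cent h hs ht hne (htZ s hsS) hdc (htZ d (hQS ((zpowers_le.mpr hrR.2) hdR))) with e' | e' | e' | e'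
    · exact Or.inl e'
    · exact absurd (e' ▸ hdR) hsr'
    · exact Or.inr e'
    · refine absurd ?_ hsr'
      have := mul_mem (e' ▸ hdR) (hgen t ⟨htr, htQ⟩)
      rwa [mul_assoc, Involutions.mul_self_eq_one_of_orderOf ht, mul_one] at this
  -- the odd elements
  intro g
  obtain ⟨k, hk⟩ := DihedralFusion.exists_mem_pow_two_of_odd g
  refine ⟨k, ?_⟩
  set v := g ^ 2 ^ k
  by_contra hv1
  have hvC : (v : G) ∈ C := v.2
  have hvodd : Odd (orderOf (v : G)) := by rw [Subgroup.orderOf_coe]; exact hk
  have hQn : ∀ y ∈ Q, (v : G) * y * (v : G)⁻¹ ∈ Q := by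
    rintro _ ⟨y, hy, rfl⟩
    exact ⟨v * y * v⁻¹, Subgroup.Normal.conj_mem (Subgroup.sSup_normal _ (fun _ h => h.1) : (Cfsg.pCore 2 C).Normal) y hy v, rfl⟩
  have hvt : Commute (v : G) t := (hCmem hvC).symm
  -- the cyclic part is invariant
  have hvr : (v : G) * r * (v : G)⁻¹ ∈ zpowers r := by
    rcases hQR _ (hQn r hrR.2) with e | e
    · exact e
    · exfalso
      set y := (v : G) * r * (v : G)⁻¹
      have hy : y = y * s * s := by rw [mul_assoc, hs2, mul_one]
      have hyo : orderOf y = 2 ^ j := (Involutions.orderOf_conj _ r).trans hj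
      have hnot : y ∉ zpowers r := fun e' => hsr' (by simpa using mul_mem (inv_mem e') e)
      have ht1 : t ≠ 1 := fun e1 => by rw [e1, orderOf_one] at ht; omega
      have hy4 : y ^ 4 = 1 := by
        have h4 := hsq _ e
        rw [← hy] at h4
        rcases h4 with e' | e' <;> rw [show (4 : ℕ) = 2 + 2 by norm_num, pow_add, pow_two, e']
        · exact one_mul 1
        · exact Involutions.mul_self_eq_one_of_orderOf ht
      have hj2 : j ≤ 2 := by
        have := orderOf_dvd_of_pow_eq_one hy4
        rw [hyo, show (4 : ℕ) = 2 ^ 2 by norm_num] at this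
        exact (Nat.pow_dvd_pow_iff_le_right (by norm_num : 1 < 2)).mp this
      rcases Nat.lt_or_ge j 2 with hj1 | hj1
      · -- then the cyclic part is central
        have hr2 : r ^ 2 = 1 := orderOf_dvd_iff_pow_eq_one.mp (hj ▸ Nat.pow_dvd_pow 2 (by omega : j ≤ 1))
        obtain ⟨m, hm⟩ := hgen t ⟨htr, htQ⟩
        have hrt : r = t := by
          obtain ⟨l, rfl | rfl⟩ := Int.even_or_odd' m
          · exfalso
            refine ht1 ?_
            rw [← show r ^ (2 * l) = t from hm, zpow_mul, zpow_two, ← pow_two, hr2, one_zpow]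
          · rw [← show r ^ (2 * l + 1) = t from hm, zpow_add_one, zpow_mul, zpow_two, ← pow_two, hr2, one_zpow, one_mul]
        refine hnot ?_
        show (v : G) * r * (v : G)⁻¹ ∈ zpowers r
        rw [hrt, hvt.eq, mul_inv_cancel_right]
        exact mem_zpowers t
      · have hj2' : j = 2 := by omega
        subst hj2'
        -- elements outside are involutions
        have hrs : s * r * s = r⁻¹ := by
          obtain ⟨l, hl⟩ := hnormal r (mem_zpowers r)
          have hl' : r ^ l = s * r * s := hl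
          obtain ⟨m, rfl | rfl⟩ := Int.even_or_odd' l
          · exfalso
            have ho : orderOf (s * r * s) = 4 := by
              rw [show s * r * s = s * r * s⁻¹ by rw [Involutions.inv_eq_self_of_orderOf hs], Involutions.orderOf_conj, hj]
              norm_num
            have : (s * r * s) ^ 2 = 1 := by
              rw [← hl', ← zpow_natCast, ← zpow_mul, show (2 : ℤ) * m * ((2 : ℕ) : ℤ) = ((2 ^ 2 : ℕ) : ℤ) * m by push_cast; ring,
                zpow_mul, zpow_natCast, ← hj, pow_orderOf_eq_one, one_zpow]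
            have := orderOf_dvd_of_pow_eq_one this
            rw [ho] at this
            norm_num at this
          · obtain ⟨m', rfl | rfl⟩ := Int.even_or_odd' m
            · exfalso
              have e1 : r ^ (2 * (2 * m') + 1) = r := by
                rw [zpow_add_one, show (2 : ℤ) * (2 * m') = ((2 ^ 2 : ℕ) : ℤ) * m' by push_cast; ring,
                  zpow_mul, zpow_natCast, ← hj, pow_orderOf_eq_one, one_zpow, one_mul]
              rw [e1] at hl'
              have hc : Commute r s := by
                show r * s = s * r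
                nth_rewrite 1 [hl']
                rw [mul_assoc, hs2, mul_one]
              have h4 : (r : G) * r = 1 := by
                rcases four_cent h hs ht hne (htZ s hsS) hc (htZ r hrS) with e2 | e2 | e2 | e2 <;> rw [e2]
                · exact one_mul 1
                · exact hs2
                · exact Involutions.mul_self_eq_one_of_orderOf ht
                · calc s * t * (s * t) = s * (t * s) * t := by group
                    _ = (s * s) * (t * t) := by rw [← (htZ s hsS).eq]; group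
                    _ = 1 := by rw [hs2, Involutions.mul_self_eq_one_of_orderOf ht, mul_one]
              have := orderOf_dvd_of_pow_eq_one (show r ^ 2 = 1 by rw [pow_two]; exact h4)
              rw [hj] at this
              norm_num at this
            · rw [← hl', show (2 : ℤ) * (2 * m' + 1) + 1 = ((2 ^ 2 : ℕ) : ℤ) * (m' + 1) + (-1) by push_cast; ring,
                zpow_add, zpow_mul, zpow_natCast, ← hj, pow_orderOf_eq_one, one_zpow, one_mul, zpow_neg_one]
        obtain ⟨l, hl⟩ := e
        have hl' : r ^ l = y * s := hl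
        have hinv : s * r ^ l * s = (r ^ l)⁻¹ := by
          nth_rewrite 2 [← Involutions.inv_eq_self_of_orderOf hs]
          rw [← conj_zpow, Involutions.inv_eq_self_of_orderOf hs, hrs, inv_zpow]
        have h2 : y * y = 1 := by
          rw [hy, ← hl']
          calc r ^ l * s * (r ^ l * s) = r ^ l * (s * r ^ l * s) := by group
            _ = 1 := by rw [hinv, mul_inv_cancel]
        have := orderOf_dvd_of_pow_eq_one (show y ^ 2 = 1 by rw [pow_two]; exact h2)
        rw [hyo] at this
        norm_num at this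
  -- and centralized
  have hvr' : Commute (v : G) r := by
    obtain ⟨a, ha⟩ := hvr
    have ha' : (v : G) * r * (v : G)⁻¹ = r ^ a := ha.symm
    have hiter : ∀ n : ℕ, (v : G) ^ n * r * ((v : G) ^ n)⁻¹ = r ^ (a ^ n) := by
      intro n
      induction n with
      | zero => simp
      | succ n ih =>
        rw [pow_succ', show (v : G) * (v : G) ^ n * r * ((v : G) * (v : G) ^ n)⁻¹ =
          (v : G) * ((v : G) ^ n * r * ((v : G) ^ n)⁻¹) * (v : G)⁻¹ by group, ih, ← conj_zpow, ha', ← zpow_mul,
          pow_succ' a]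
    have h1 := hiter (orderOf (v : G))
    rw [pow_orderOf_eq_one] at h1
    simp only [one_mul, inv_one, mul_one] at h1
    have h2 : ((a : ZMod (2 ^ j))) ^ orderOf (v : G) = 1 := by
      have h3 : r ^ (a ^ orderOf (v : G)) = r ^ (1 : ℤ) := by rw [zpow_one]; exact h1.symm
      rw [zpow_eq_zpow_iff_modEq, hj, ← ZMod.intCast_eq_intCast_iff] at h3
      simpa using h3
    have ha1 : (a : ZMod (2 ^ j)) = 1 := by
      have hpos : orderOf (v : G) ≠ 0 := (orderOf_pos _).ne'
      obtain ⟨w, hw⟩ : IsUnit (a : ZMod (2 ^ j)) := (isUnit_pow_iff hpos).mp (h2 ▸ isUnit_one)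
      have hw1 : w ^ orderOf (v : G) = 1 := Units.ext (by rw [Units.val_pow_eq_pow_val, hw, Units.val_one]; exact h2)
      rcases Nat.eq_zero_or_pos j with rfl | hj0
      · haveI : Subsingleton (ZMod (2 ^ 0)) := by rw [pow_zero]; infer_instance
        exact Subsingleton.elim _ _
      have hw2 : w ^ (2 ^ (j - 1)) = 1 := by
        haveI : NeZero (2 ^ j) := ⟨by positivity⟩
        have := ZMod.pow_totient w
        rwa [Nat.totient_prime_pow Nat.prime_two hj0, show (2 - 1 : ℕ) = 1 from rfl, mul_one] at this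
      have := Nat.eq_one_of_dvd_coprimes (Nat.Coprime.pow_right _ (Nat.coprime_two_right.mpr hvodd))
        (orderOf_dvd_of_pow_eq_one hw1) (orderOf_dvd_of_pow_eq_one hw2)
      rw [← hw, orderOf_eq_one_iff.mp this, Units.val_one]
    refine mul_inv_eq_iff_eq_mul.mp ?_
    rw [ha']
    nth_rewrite 2 [← zpow_one r]
    rw [zpow_eq_zpow_iff_modEq, hj, ← ZMod.intCast_eq_intCast_iff]
    simpa using ha1
  have hvs : Commute (v : G) s := by
    rcases hQR _ (hQn s hsQ) with e | e
    · exfalso
      set y := (v : G) * s * (v : G)⁻¹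
      obtain ⟨l, hl⟩ := e
      have hc : Commute (v : G) y := hl ▸ hvr'.zpow_right l
      have : s = y := by
        calc s = (v : G)⁻¹ * (y * v) := by show s = (v : G)⁻¹ * ((v : G) * s * (v : G)⁻¹ * v); group
          _ = (v : G)⁻¹ * (v * y) := by rw [hc.eq]
          _ = y := inv_mul_cancel_left _ _
      exact hsr' (this ▸ ⟨l, hl⟩)
    · set q := (v : G) * s * (v : G)⁻¹ * s
      have hvq : Commute (v : G) q := by
        obtain ⟨l, hl⟩ := e
        exact hl ▸ hvr'.zpow_right l
      have hiter : ∀ n : ℕ, (v : G) ^ n * s * ((v : G) ^ n)⁻¹ = q ^ n * s := by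
        intro n
        induction n with
        | zero => simp
        | succ n ih =>
          rw [pow_succ', show (v : G) * (v : G) ^ n * s * ((v : G) * (v : G) ^ n)⁻¹ =
            (v : G) * ((v : G) ^ n * s * ((v : G) ^ n)⁻¹) * (v : G)⁻¹ by group, ih,
            show (v : G) * (q ^ n * s) * (v : G)⁻¹ = ((v : G) * q ^ n * (v : G)⁻¹) * ((v : G) * s * (v : G)⁻¹) by group,
            (hvq.pow_right n).eq, mul_inv_cancel_right, pow_succ,
            show q ^ n * q * s = q ^ n * ((v : G) * s * (v : G)⁻¹ * (s * s)) by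
              show q ^ n * ((v : G) * s * (v : G)⁻¹ * s) * s = _; group,
            hs2, mul_one]
      have h1 := hiter (orderOf (v : G))
      rw [pow_orderOf_eq_one] at h1
      simp only [one_mul, inv_one, mul_one] at h1
      have hq1 : q ^ orderOf (v : G) = 1 := mul_eq_right.mp h1.symm
      have hqd : orderOf q ∣ 2 ^ j := hj ▸ orderOf_dvd_of_mem_zpowers e
      have := Nat.eq_one_of_dvd_coprimes (Nat.Coprime.pow_right _ (Nat.coprime_two_right.mpr hvodd))
        (orderOf_dvd_of_pow_eq_one hq1) hqd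
      have hq0 : (v : G) * s * (v : G)⁻¹ * s = 1 := orderOf_eq_one_iff.mp this
      refine mul_inv_eq_iff_eq_mul.mp ?_
      rw [eq_inv_of_mul_eq_one_left hq0, Involutions.inv_eq_self_of_orderOf hs]
  have hd2 : orderOf (v : G) ∣ 2 := by
    refine orderOf_dvd_of_pow_eq_one ?_
    rw [pow_two]
    rcases four_cent h hs ht hne (htZ s hsS) hvs hvt with e | e | e | e <;> rw [e]
    · exact one_mul 1
    · exact hs2
    · exact Involutions.mul_self_eq_one_of_orderOf ht
    · calc s * t * (s * t) = s * (t * s) * t := by group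
        _ = (s * s) * (t * t) := by rw [← (htZ s hsS).eq]; group
        _ = 1 := by rw [hs2, Involutions.mul_self_eq_one_of_orderOf ht, mul_one]
  rcases (Nat.dvd_prime Nat.prime_two).mp hd2 with e | e
  · exact hv1 (Subtype.ext (orderOf_eq_one_iff.mp e))
  · rw [e] at hvodd
    exact absurd hvodd (by decide)

end CfsgLib.SCNonCyclic
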